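import Groth.Prelude.Def_WeakSerre
import Groth.Agent.H9Misc.WayOut

/-! Complexes with cohomology in a weak Serre subcategory. -/

universe w w' v v' u u'

open CategoryTheory CategoryTheory.Limits DerivedCategory Pretriangulated

namespace Groth.Agent.SiteCmpLib

variable {A : Type u} [Category.{v} A] [Abelian A]

lemma prop_of_five {P : ObjectProperty A} [WSerre.IsWeakSerre P] {X₁ X₂ X₃ X₄ X₅ : A}
    {f₁ : X₁ ⟶ X₂} {f₂ : X₂ ⟶ X₃} {f₃ : X₃ ⟶ X₄} {f₄ : X₄ ⟶ X₅}
    {w₁ : f₁ ≫ f₂ = 0} {w₂ : f₂ ≫ f₃ = 0} {w₃ : f₃ ≫ f₄ = 0}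
    (e₁ : (ShortComplex.mk f₁ f₂ w₁).Exact) (e₂ : (ShortComplex.mk f₂ f₃ w₂).Exact)
    (e₃ : (ShortComplex.mk f₃ f₄ w₃).Exact) (h₁ : P X₁) (h₂ : P X₂) (h₄ : P X₄) (h₅ : P X₅) :
    P X₃ := by
  let S : ShortComplex A := ShortComplex.mk (cokernel.desc f₁ f₂ w₁) (kernel.lift f₄ f₃ w₃)
    (by rw [← cancel_epi (cokernel.π f₁), ← cancel_mono (kernel.ι f₄)]; simp [w₂])
  have hS : S.ShortExact := by
    refine ShortComplex.ShortExact.mk' ?_ e₁.mono_cokernelDesc e₃.epi_kernelLift
    rw [ShortComplex.exact_iff_exact_up_to_refinements]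
    intro T x hx
    have : x ≫ f₃ = 0 := by
      have := congrArg (fun t => t ≫ kernel.ι f₄) hx
      simpa [S] using this
    obtain ⟨T', π, hπ, y, hy⟩ := e₂.exact_up_to_refinements x this
    exact ⟨T', π, hπ, y ≫ cokernel.π f₁, by simpa [S] using hy⟩
  exact P.prop_X₂_of_shortExact hS
    (P.prop_cokernel f₁ h₁ h₂)
    (P.prop_kernel f₄ h₄ h₅)

variable [HasDerivedCategory.{w} A] (P : ObjectProperty A) [WSerre.IsWeakSerre P]

lemma cohIn_obj₂ (T : Triangle (DerivedCategory A)) (hT : T ∈ distinguishedTriangles)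
    (h₁ : WSerre.cohIn P T.obj₁) (h₃ : WSerre.cohIn P T.obj₃) : WSerre.cohIn P T.obj₂ := fun i =>
  prop_of_five (HomologySequence.exact₁ T hT (i - 1) i (by omega)) (HomologySequence.exact₂ T hT i)
    (HomologySequence.exact₃ T hT i (i + 1) rfl) (h₃ (i - 1)) (h₁ i) (h₃ i) (h₁ (i + 1))

instance : (WSerre.cohIn P).IsClosedUnderIsomorphisms where
  of_iso e h i := P.prop_of_iso ((homologyFunctor A i).mapIso e) (h i)

lemma cohIn_shift {X : DerivedCategory A} (h : WSerre.cohIn P X) (n : ℤ) : WSerre.cohIn P (X⟦n⟧) :=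
  fun i => P.prop_of_iso
    (((homologyFunctor A 0).shiftIso n i (n + i) rfl).app X).symm (h (n + i))

lemma cohIn_zero {X : DerivedCategory A} (h : ∀ i, IsZero ((homologyFunctor A i).obj X)) :
    WSerre.cohIn P X := fun i => by
  obtain ⟨Z, hZ, hPZ⟩ := P.exists_prop_of_containsZero
  exact P.prop_of_iso (hZ.iso (h i)) hPZ

lemma prop_of_isZero {M : A} (h : IsZero M) : P M := by
  obtain ⟨Z, hZ, hPZ⟩ := P.exists_prop_of_containsZero
  exact P.prop_of_iso (hZ.iso h) hPZ

lemma cohIn_single {M : A} (hM : P M) (n : ℤ) : WSerre.cohIn P ((singleFunctor A n).obj M) := fun i => by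
  rcases lt_trichotomy i n with h | rfl | h
  · exact prop_of_isZero P (isZero_of_isGE _ n i h)
  · exact P.prop_of_iso ((singleFunctorCompHomologyFunctorIso A i).app M).symm hM
  · exact prop_of_isZero P (isZero_of_isLE _ n i h)

variable {B : Type u'} [Category.{v'} B] [Abelian B] [HasDerivedCategory.{w'} B]
  {G : DerivedCategory A ⥤ DerivedCategory B} [G.CommShift ℤ] [G.IsTriangulated]
  (Q : ObjectProperty B) [WSerre.IsWeakSerre Q]

lemma cohIn_map_single (hs : ∀ M : A, P M → WSerre.cohIn Q (G.obj ((singleFunctor A 0).obj M)))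
    (n : ℤ) {M : A} (hM : P M) : WSerre.cohIn Q (G.obj ((singleFunctor A n).obj M)) :=
  (WSerre.cohIn Q).prop_of_iso
    (((G.commShiftIso (-n)).app ((singleFunctor A 0).obj M)).symm ≪≫
      G.mapIso (((singleFunctors A).shiftIso (-n) n 0 (by omega)).app M))
    (cohIn_shift Q (hs M hM) (-n))

lemma cohIn_map_bounded_aux (hs : ∀ M : A, P M → WSerre.cohIn Q (G.obj ((singleFunctor A 0).obj M))) :
    ∀ (k : ℕ) (X : DerivedCategory A) (a b : ℤ), b ≤ a + k → X.IsGE a → X.IsLE b →
      WSerre.cohIn P X → WSerre.cohIn Q (G.obj X) := by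
  intro k
  induction k with
  | zero =>
    intro X a b hk hGE hLE hX
    have := hGE
    have : X.IsLE a := TStructure.t.isLE_of_le X b a (by omega)
    obtain ⟨Y, ⟨e⟩⟩ := exists_iso_singleFunctor_obj_of_isGE_of_isLE X a
    refine (WSerre.cohIn Q).prop_of_iso (G.mapIso e).symm (cohIn_map_single P Q hs a ?_)
    exact P.prop_of_iso ((homologyFunctor A a).mapIso e ≪≫
      (singleFunctorCompHomologyFunctorIso A a).app Y) (hX a)
  | succ k ih =>
    intro X a b hk hGE hLE hX
    have := hGE; have := hLE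
    have hP : ∀ Z : A, IsZero Z → P Z := fun Z hZ => prop_of_isZero P hZ
    let T := (TStructure.t.triangleLTGE (a + 1)).obj X
    have hT : T ∈ distinguishedTriangles := TStructure.t.triangleLTGE_distinguished (a + 1) X
    refine cohIn_obj₂ Q _ (G.map_distinguished _ hT) ?_ ?_
    · refine ih _ a a (by omega) (KFlatLib.isGE_truncLT X a (a + 1)) ?_
        (H9Misc.WayOut.P_truncLT P (hP := hP) hX (a + 1))
      exact inferInstanceAs (TStructure.t.IsLE ((TStructure.t.truncLT (a + 1)).obj X) a)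
    · refine ih _ (a + 1) b (by omega)
        (inferInstanceAs (TStructure.t.IsGE ((TStructure.t.truncGE (a + 1)).obj X) (a + 1))) ?_
        (H9Misc.WayOut.P_truncGE P (hP := hP) hX (a + 1))
      rw [isLE_iff]
      intro i hi
      rcases lt_or_ge i (a + 1) with h | h
      · have : DerivedCategory.IsGE ((TStructure.t.truncGE (a + 1)).obj X) (a + 1) :=
          inferInstanceAs (TStructure.t.IsGE ((TStructure.t.truncGE (a + 1)).obj X) (a + 1))
        exact isZero_of_isGE _ (a + 1) i h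
      · have := H9Misc.WayOut.isIso_H_truncGE X (a + 1) i h
        exact (isZero_of_isLE X b i hi).of_iso
          (asIso ((homologyFunctor A i).map ((TStructure.t.truncGEπ (a + 1)).app X))).symm

/-- A triangulated functor with bounded below amplitude respects cohomology in weak Serre classes. -/
theorem cohIn_map_of_isGE (hs : ∀ M : A, P M → WSerre.cohIn Q (G.obj ((singleFunctor A 0).obj M)))
    (hG : ∀ (n : ℤ) (Y : DerivedCategory A), Y.IsGE n → (G.obj Y).IsGE n)
    (X : DerivedCategory A) (a : ℤ) [X.IsGE a] (hX : WSerre.cohIn P X) : WSerre.cohIn Q (G.obj X) := by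
  intro i
  let T := (TStructure.t.triangleLTGE (i + 2)).obj X
  have hT : T ∈ distinguishedTriangles := TStructure.t.triangleLTGE_distinguished (i + 2) X
  have : (G.obj T.obj₃).IsGE (i + 2) := hG _ _
    (inferInstanceAs (TStructure.t.IsGE ((TStructure.t.truncGE (i + 2)).obj X) (i + 2)))
  have h₁ := cohIn_map_bounded_aux P Q hs (i + 1 - a).toNat T.obj₁ a (i + 1) (by omega)
    (KFlatLib.isGE_truncLT X a (i + 2))
    (TStructure.t.isLE_truncLT_obj X (i + 2) (i + 1) (by omega))
    (H9Misc.WayOut.P_truncLT P (hP := fun Z hZ => prop_of_isZero P hZ) hX (i + 2)) i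
  have hT' := G.map_distinguished _ hT
  have : Mono ((homologyFunctor B i).map (G.mapTriangle.obj T).mor₁) :=
    (HomologySequence.mono_homologyMap_mor₁_iff _ hT' (i - 1) i (by omega)).2
      ((isZero_of_isGE (G.obj T.obj₃) (i + 2) (i - 1) (by omega)).eq_of_src _ _)
  have : Epi ((homologyFunctor B i).map (G.mapTriangle.obj T).mor₁) :=
    (HomologySequence.epi_homologyMap_mor₁_iff _ hT' i).2
      ((isZero_of_isGE (G.obj T.obj₃) (i + 2) i (by omega)).eq_of_tgt _ _)
  have := isIso_of_mono_of_epi ((homologyFunctor B i).map (G.mapTriangle.obj T).mor₁)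
  exact Q.prop_of_iso (@asIso _ _ _ _ ((homologyFunctor B i).map (G.mapTriangle.obj T).mor₁) this) h₁

end Groth.Agent.SiteCmpLib
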