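import Groth.Prelude.Def_SiteCmp
import Groth.Prelude.Def_CohCx
import Groth.Agent.H9Misc.RpushLeftAdj
import Groth.Agent.SiteBase.ModGroth

/-! The unbounded derived direct image and derived limits. -/

universe w v' u' v u

open CategoryTheory CategoryTheory.Limits DerivedCategory Pretriangulated

attribute [local instance] HasDerivedCategory.standard

namespace Groth.Agent.SiteCmpLib

section General

variable {T : Type u} [Category.{v} T] [Preadditive T] [HasZeroObject T] [HasShift T ℤ]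
  [∀ n : ℤ, (shiftFunctor T n).Additive] [Pretriangulated T]
  {T' : Type u'} [Category.{v'} T'] [Preadditive T'] [HasZeroObject T'] [HasShift T' ℤ]
  [∀ n : ℤ, (shiftFunctor T' n).Additive] [Pretriangulated T']
  (G : T ⥤ T') [G.CommShift ℤ] [G.IsTriangulated]
  {R : T ⥤ T'} (e : G ≅ R)

include e in
lemma isRlimVia_map (K : ℕ → T) (t : ∀ n, K (n + 1) ⟶ K n) [HasProduct K] (L : T) (a : ∀ n, L ⟶ K n)
    (h : CohCx.IsRlimVia K t L a) [HasProduct fun n => R.obj (K n)]
    [PreservesLimit (Discrete.functor K) R] :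
    CohCx.IsRlimVia (fun n => R.obj (K n)) (fun n => R.map (t n)) (R.obj L) (fun n => R.map (a n)) := by
  obtain ⟨c, hc⟩ := h
  let φ := PreservesProduct.iso R K
  refine ⟨φ.inv ≫ e.inv.app _ ≫ G.map c ≫ (G.commShiftIso (1 : ℤ)).hom.app L ≫
    (shiftFunctor T' (1 : ℤ)).map (e.hom.app L), ?_⟩
  have hl : Pi.lift (fun n => R.map (a n)) = R.map (Pi.lift a) ≫ φ.hom := by
    ext n
    simp [φ, ← Functor.map_comp]
  let d : ∏ᶜ K ⟶ ∏ᶜ K := Pi.lift fun n => Pi.π K n - Pi.π K (n + 1) ≫ t n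
  have : R.Additive := Functor.additive_of_iso e
  have hd : Pi.lift (fun n => Pi.π (fun n => R.obj (K n)) n -
      Pi.π (fun n => R.obj (K n)) (n + 1) ≫ R.map (t n)) = φ.inv ≫ R.map d ≫ φ.hom := by
    rw [← cancel_epi φ.hom, φ.hom_inv_id_assoc]
    ext n
    simp [φ, d, ← Functor.map_comp, piComparison_comp_π_assoc]
  let ψ : (∏ᶜ fun n => R.obj (K n)) ≅ G.obj (∏ᶜ K) := φ.symm ≪≫ e.symm.app _
  refine isomorphic_distinguished _ (G.map_distinguished _ hc) _
    (Triangle.isoMk _ _ (e.symm.app L) ψ ψ ?_ ?_ ?_)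
  · change Pi.lift (fun n => R.map (a n)) ≫ φ.inv ≫ e.inv.app _ = e.inv.app L ≫ G.map (Pi.lift a)
    rw [hl, Category.assoc, φ.hom_inv_id_assoc]
    exact e.inv.naturality (Pi.lift a)
  · change Pi.lift (fun n => Pi.π (fun n => R.obj (K n)) n -
      Pi.π (fun n => R.obj (K n)) (n + 1) ≫ R.map (t n)) ≫ φ.inv ≫ e.inv.app _ =
        (φ.inv ≫ e.inv.app _) ≫ G.map d
    rw [hd]
    simp only [Category.assoc, Iso.hom_inv_id_assoc]
    congr 1
    exact e.inv.naturality d
  · change (φ.inv ≫ e.inv.app _ ≫ G.map c ≫ (G.commShiftIso (1 : ℤ)).hom.app L ≫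
      (shiftFunctor T' (1 : ℤ)).map (e.hom.app L)) ≫ (shiftFunctor T' (1 : ℤ)).map (e.inv.app L) =
      (φ.inv ≫ e.inv.app _) ≫ G.map c ≫ (G.commShiftIso (1 : ℤ)).hom.app L
    simp only [Category.assoc, ← Functor.map_comp, Iso.hom_inv_id_app, CategoryTheory.Functor.map_id]
    erw [Category.comp_id]

end General

section Derived

variable {A : Type u} [Category.{v} A] [Abelian A] {B : Type u'} [Category.{v} B] [Abelian B]
  [IsGrothendieckAbelian.{v} B] (G : B ⥤ A) [G.Additive]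
  [(G.mapHomotopyCategory (ComplexShape.up ℤ) ⋙ Qh).HasRightDerivedFunctor
      (HomotopyCategory.quasiIso B (ComplexShape.up ℤ))]

theorem totalRightDerived_isRlimVia
    (hR : ((G.mapHomotopyCategory (ComplexShape.up ℤ) ⋙ Qh).totalRightDerived Qh
      (HomotopyCategory.quasiIso B (ComplexShape.up ℤ))).IsRightAdjoint)
    (E : ℕ → DerivedCategory B) (t : ∀ n, E (n + 1) ⟶ E n) [HasProduct E] (L : DerivedCategory B)
    (a : ∀ n, L ⟶ E n) (hL : CohCx.IsRlimVia E t L a)
    [HasProduct fun n => ((G.mapHomotopyCategory (ComplexShape.up ℤ) ⋙ Qh).totalRightDerived Qh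
      (HomotopyCategory.quasiIso B (ComplexShape.up ℤ))).obj (E n)] :
    let R := (G.mapHomotopyCategory (ComplexShape.up ℤ) ⋙ Qh).totalRightDerived Qh
      (HomotopyCategory.quasiIso B (ComplexShape.up ℤ))
    CohCx.IsRlimVia (fun n => R.obj (E n)) (fun n => R.map (t n)) (R.obj L) (fun n => R.map (a n)) := by
  intro R
  have := TriCat.qh_isLeftAdjoint_of_exists_resolution (A := B) fun L => by
    obtain ⟨I, f, hI, hf, -, -⟩ := TriCat.exists_kInjective_resolution' L
    exact ⟨I, f, hI, hf⟩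
  let adjQ := Adjunction.ofIsLeftAdjoint (Qh (C := B))
  let W := HomotopyCategory.quasiIso B (ComplexShape.up ℤ)
  have := TriCat.isRightDerivedFunctor_of_adjunction adjQ W (G.mapHomotopyCategory (ComplexShape.up ℤ) ⋙ Qh)
  let e : Qh.rightAdjoint ⋙ G.mapHomotopyCategory (ComplexShape.up ℤ) ⋙ Qh ≅ R :=
    Functor.rightDerivedUnique _ _ (Functor.whiskerRight adjQ.unit (G.mapHomotopyCategory (ComplexShape.up ℤ) ⋙ Qh) :
      G.mapHomotopyCategory (ComplexShape.up ℤ) ⋙ Qh ⟶
        Qh ⋙ Qh.rightAdjoint ⋙ G.mapHomotopyCategory (ComplexShape.up ℤ) ⋙ Qh)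
      ((G.mapHomotopyCategory (ComplexShape.up ℤ) ⋙ Qh).totalRightDerivedUnit Qh W) W
  let _ : (Qh.rightAdjoint : DerivedCategory B ⥤ _).CommShift ℤ := adjQ.rightAdjointCommShift ℤ
  have : adjQ.CommShift ℤ := adjQ.commShift_of_leftAdjoint ℤ
  have : (Qh.rightAdjoint : DerivedCategory B ⥤ _).IsTriangulated := adjQ.isTriangulated_rightAdjoint
  have := hR
  exact isRlimVia_map (Qh.rightAdjoint ⋙ G.mapHomotopyCategory (ComplexShape.up ℤ) ⋙ Qh) e E t L a hL

end Derived

variable {C D : Type u} [SmallCategory C] [SmallCategory D]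
  {J : GrothendieckTopology C} {K : GrothendieckTopology D}
  {O_C : Sheaf J CommRingCat.{u}} {O_D : Sheaf K CommRingCat.{u}} (f : ModSite.RMor O_C O_D)

theorem rpushD_isRlimVia [SiteCmp.HasRpushD f] (E : ℕ → DerivedCategory (ModSite.Mod O_C))
    (t : ∀ n, E (n + 1) ⟶ E n) [HasProduct E] (L : DerivedCategory (ModSite.Mod O_C))
    (a : ∀ n, L ⟶ E n) (hL : CohCx.IsRlimVia E t L a)
    [HasProduct fun n => (SiteCmp.RpushD f).obj (E n)] :
    CohCx.IsRlimVia (fun n => (SiteCmp.RpushD f).obj (E n)) (fun n => (SiteCmp.RpushD f).map (t n))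
      ((SiteCmp.RpushD f).obj L) (fun n => (SiteCmp.RpushD f).map (a n)) :=
  totalRightDerived_isRlimVia f.push (H9Misc.RpushLeftAdj.isRightAdjoint_RpushD f) E t L a hL

end Groth.Agent.SiteCmpLib
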