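import Mathlib.CategoryTheory.Triangulated.Functor
import Mathlib.CategoryTheory.Triangulated.Triangulated

/-! Bijectivity of a triangulated functor on morphism groups, and extensions. -/

universe v v' u u'

open CategoryTheory CategoryTheory.Limits Pretriangulated

namespace Groth.Agent.SiteCmpLib

variable {C : Type u} [Category.{v} C] [Preadditive C] [HasZeroObject C] [HasShift C ℤ]
  [∀ n : ℤ, (shiftFunctor C n).Additive] [Pretriangulated C]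
  {D : Type u'} [Category.{v'} D] [Preadditive D] [HasZeroObject D] [HasShift D ℤ]
  [∀ n : ℤ, (shiftFunctor D n).Additive] [Pretriangulated D]
  (F : C ⥤ D) [F.CommShift ℤ] [F.IsTriangulated]

/-- `F` is bijective on morphisms from `K` to `L`. -/
def HomBij (K L : C) : Prop := Function.Bijective (fun φ : K ⟶ L => F.map φ)

variable {F}

lemma HomBij.of_iso {K K' L L' : C} (h : HomBij F K L) (e : K ≅ K') (e' : L ≅ L') : HomBij F K' L' := by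
  refine ⟨fun φ ψ hφ => ?_, fun χ => ?_⟩
  · have := h.1 (a₁ := e.hom ≫ φ ≫ e'.inv) (a₂ := e.hom ≫ ψ ≫ e'.inv) (by simp [show F.map φ = F.map ψ from hφ])
    simpa using this
  · obtain ⟨φ, hφ⟩ := h.2 (F.map e.hom ≫ χ ≫ F.map e'.inv)
    refine ⟨e.inv ≫ φ ≫ e'.hom, ?_⟩
    show F.map (e.inv ≫ φ ≫ e'.hom) = χ
    rw [F.map_comp, F.map_comp, show F.map φ = _ from hφ]
    simp [← Functor.map_comp_assoc, ← Functor.map_comp]

lemma HomBij.shift {K L : C} (h : HomBij F K L) (n : ℤ) : HomBij F (K⟦n⟧) (L⟦n⟧) := by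
  refine ⟨fun φ ψ hφ => ?_, fun χ => ?_⟩
  · obtain ⟨φ, rfl⟩ := (shiftFunctor C n).map_surjective φ
    obtain ⟨ψ, rfl⟩ := (shiftFunctor C n).map_surjective ψ
    refine congrArg _ (h.1 ((shiftFunctor D n).map_injective ?_))
    rw [← cancel_epi ((F.commShiftIso n).hom.app K)]
    have hn : ∀ φ : K ⟶ L, (F.commShiftIso n).hom.app K ≫ (F.map φ)⟦n⟧' =
        F.map (φ⟦n⟧') ≫ (F.commShiftIso n).hom.app L :=
      fun φ => ((F.commShiftIso n).hom.naturality φ).symm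
    rw [hn, hn, show F.map (φ⟦n⟧') = F.map (ψ⟦n⟧') from hφ]
  · obtain ⟨χ', hχ'⟩ := (shiftFunctor D n).map_surjective
      ((F.commShiftIso n).inv.app K ≫ χ ≫ (F.commShiftIso n).hom.app L)
    obtain ⟨φ, hφ⟩ := h.2 χ'
    refine ⟨φ⟦n⟧', ?_⟩
    rw [← show F.map φ = χ' from hφ] at hχ'
    have hn : F.map (φ⟦n⟧') ≫ (F.commShiftIso n).hom.app L = (F.commShiftIso n).hom.app K ≫ (F.map φ)⟦n⟧' :=
      (F.commShiftIso n).hom.naturality φ
    rw [hχ'] at hn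
    have hn' : F.map (φ⟦n⟧') ≫ (F.commShiftIso n).hom.app L = χ ≫ (F.commShiftIso n).hom.app L :=
      hn.trans ((F.commShiftIso n).hom_inv_id_app_assoc K _)
    exact (cancel_mono _).1 hn'

lemma HomBij.ext₂_right {K : C} (T : Triangle C) (hT : T ∈ distinguishedTriangles)
    (h₁ : ∀ n : ℤ, HomBij F K (T.obj₁⟦n⟧)) (h₃ : ∀ n : ℤ, HomBij F K (T.obj₃⟦n⟧)) :
    HomBij F K T.obj₂ := by
  have a₁ : HomBij F K T.obj₁ := (h₁ 0).of_iso (Iso.refl _) ((shiftFunctorZero C ℤ).app _)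
  have a₃ : HomBij F K T.obj₃ := (h₃ 0).of_iso (Iso.refl _) ((shiftFunctorZero C ℤ).app _)
  have hT' := inv_rot_of_distTriang _ hT
  obtain ⟨i, hi⟩ : ∃ i : T.obj₃⟦(-1 : ℤ)⟧ ⟶ T.obj₁, i = T.invRotate.mor₁ := ⟨_, rfl⟩
  have h0 : i ≫ T.mor₁ = 0 := hi ▸ comp_distTriang_mor_zero₁₂ _ hT'
  constructor
  · intro φ ψ hφ
    obtain ⟨δ, rfl⟩ : ∃ δ, φ = ψ + δ := ⟨φ - ψ, by simp⟩
    have hδ : F.map δ = 0 := by
      simp only [Functor.map_add] at hφ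
      exact left_eq_add.1 hφ.symm
    obtain ⟨α, rfl⟩ := T.coyoneda_exact₂ hT δ (a₃.1 (by simp [hδ]))
    have hα : F.map α ≫ F.map T.mor₁ = 0 := by rw [← F.map_comp, hδ]
    obtain ⟨χ, hχ⟩ : ∃ χ, F.map α = χ ≫ F.map i :=
      hi ▸ (F.mapTriangle.obj T.invRotate).coyoneda_exact₂ (F.map_distinguished _ hT') (F.map α) hα
    obtain ⟨β, rfl⟩ := (h₃ (-1)).2 χ
    have : α = β ≫ i := a₁.1 (hχ.trans (F.map_comp _ _).symm)
    rw [this, Category.assoc, h0, comp_zero, add_zero]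
  · intro χ
    obtain ⟨ψ, hψ⟩ := a₃.2 (χ ≫ F.map T.mor₂)
    have hψ' : ψ ≫ T.mor₃ = 0 := (h₁ 1).1 (by
      show F.map (ψ ≫ T.mor₃) = F.map 0
      rw [F.map_comp, show F.map ψ = _ from hψ, Category.assoc, ← F.map_comp,
        comp_distTriang_mor_zero₂₃ _ hT]
      simp)
    obtain ⟨φ, hφ⟩ := T.coyoneda_exact₃ hT ψ hψ'
    obtain ⟨ω, hω⟩ : ∃ ω, χ - F.map φ = ω ≫ F.map T.mor₁ :=
      (F.mapTriangle.obj T).coyoneda_exact₂ (F.map_distinguished _ hT) _ (by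
        show (χ - F.map φ) ≫ F.map T.mor₂ = 0
        rw [Preadditive.sub_comp, ← F.map_comp, ← hφ, show F.map ψ = _ from hψ, sub_self])
    obtain ⟨α, rfl⟩ := a₁.2 ω
    exact ⟨φ + α ≫ T.mor₁, by simp [← hω]⟩

lemma HomBij.ext₂_left {L : C} (T : Triangle C) (hT : T ∈ distinguishedTriangles)
    (h₁ : ∀ n : ℤ, HomBij F (T.obj₁⟦n⟧) L) (h₃ : ∀ n : ℤ, HomBij F (T.obj₃⟦n⟧) L) :
    HomBij F T.obj₂ L := by
  have a₁ : HomBij F T.obj₁ L := (h₁ 0).of_iso ((shiftFunctorZero C ℤ).app _) (Iso.refl _)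
  have a₃ : HomBij F T.obj₃ L := (h₃ 0).of_iso ((shiftFunctorZero C ℤ).app _) (Iso.refl _)
  have hT' := inv_rot_of_distTriang _ hT
  obtain ⟨i, hi⟩ : ∃ i : T.obj₃⟦(-1 : ℤ)⟧ ⟶ T.obj₁, i = T.invRotate.mor₁ := ⟨_, rfl⟩
  have h0 : i ≫ T.mor₁ = 0 := hi ▸ comp_distTriang_mor_zero₁₂ _ hT'
  constructor
  · intro φ ψ hφ
    obtain ⟨δ, rfl⟩ : ∃ δ, φ = ψ + δ := ⟨φ - ψ, by simp⟩
    have hδ : F.map δ = 0 := by
      simp only [Functor.map_add] at hφ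
      exact left_eq_add.1 hφ.symm
    obtain ⟨α, rfl⟩ := T.yoneda_exact₂ hT δ (a₁.1 (by simp [hδ]))
    have hα : F.map T.mor₂ ≫ F.map α = 0 := by rw [← F.map_comp, hδ]
    obtain ⟨χ, hχ⟩ : ∃ χ, F.map α = F.map T.rotate.mor₂ ≫ χ :=
      (F.mapTriangle.obj T.rotate).yoneda_exact₂ (F.map_distinguished _ (rot_of_distTriang _ hT)) (F.map α) hα
    obtain ⟨β, rfl⟩ := (h₁ 1).2 χ
    have : α = T.mor₃ ≫ β := a₃.1 (hχ.trans (F.map_comp _ _).symm)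
    rw [this, comp_distTriang_mor_zero₂₃_assoc _ hT, zero_comp, add_zero]
  · intro χ
    obtain ⟨ψ, hψ⟩ := a₁.2 (F.map T.mor₁ ≫ χ)
    have hψ' : i ≫ ψ = 0 := (h₃ (-1)).1 (by
      show F.map (i ≫ ψ) = F.map 0
      rw [F.map_comp, show F.map ψ = _ from hψ, ← F.map_comp_assoc, h0]
      simp)
    obtain ⟨φ, hφ⟩ : ∃ φ : T.obj₂ ⟶ L, ψ = T.mor₁ ≫ φ :=
      T.invRotate.yoneda_exact₂ hT' ψ (hi ▸ hψ')
    obtain ⟨ω, hω⟩ : ∃ ω, χ - F.map φ = F.map T.mor₂ ≫ ω :=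
      (F.mapTriangle.obj T).yoneda_exact₂ (F.map_distinguished _ hT) _ (by
        show F.map T.mor₁ ≫ (χ - F.map φ) = 0
        rw [Preadditive.comp_sub, ← F.map_comp, ← hφ, show F.map ψ = _ from hψ, sub_self])
    obtain ⟨α, rfl⟩ := a₃.2 ω
    exact ⟨φ + T.mor₂ ≫ α, by simp [← hω]⟩

end Groth.Agent.SiteCmpLib
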