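import Groth.Agent.SiteCmpLib.Flat
import Groth.Agent.SiteCmpLib.HomBij

/-! An exact functor on bounded complexes with cohomology in weak Serre subcategories. -/

universe w w' v v' u u'

open CategoryTheory CategoryTheory.Limits DerivedCategory Pretriangulated

namespace Groth.Agent.SiteCmpLib

variable {A : Type u} [Category.{v} A] [Abelian A] [HasDerivedCategory.{w} A]

/-- Dévissage of bounded objects with cohomology in a weak Serre subcategory. -/
theorem bdd_induction {P : ObjectProperty A} [WSerre.IsWeakSerre P]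
    (S : ObjectProperty (DerivedCategory A)) [S.IsClosedUnderIsomorphisms]
    (hs : ∀ (M : A), P M → ∀ n : ℤ, S ((singleFunctor A n).obj M))
    (he : ∀ T ∈ distTriang (DerivedCategory A), WSerre.cohInBdd P T.obj₁ → WSerre.cohInBdd P T.obj₃ →
      S T.obj₁ → S T.obj₃ → S T.obj₂)
    (X : DerivedCategory A) (hX : WSerre.cohInBdd P X) : S X := by
  suffices ∀ (k : ℕ) (X : DerivedCategory A) (a b : ℤ), b ≤ a + k → X.IsGE a → X.IsLE b →
      WSerre.cohIn P X → S X by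
    obtain ⟨h, ⟨a, ha⟩, ⟨b, hb⟩⟩ := hX
    exact this (b - a).toNat X a b (by omega) ha hb h
  intro k
  induction k with
  | zero =>
    intro X a b hk hGE hLE hX
    have := hGE
    have : X.IsLE a := TStructure.t.isLE_of_le X b a (by omega)
    obtain ⟨Y, ⟨e⟩⟩ := exists_iso_singleFunctor_obj_of_isGE_of_isLE X a
    exact S.prop_of_iso e.symm (hs Y (P.prop_of_iso ((homologyFunctor A a).mapIso e ≪≫
      (singleFunctorCompHomologyFunctorIso A a).app Y) (hX a)) a)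
  | succ k ih =>
    intro X a b hk hGE hLE hX
    have := hGE; have := hLE
    have hP : ∀ Z : A, IsZero Z → P Z := fun Z hZ => prop_of_isZero P hZ
    let T := (TStructure.t.triangleLTGE (a + 1)).obj X
    have hT : T ∈ distinguishedTriangles := TStructure.t.triangleLTGE_distinguished (a + 1) X
    have g₁ : T.obj₁.IsGE a := KFlatLib.isGE_truncLT X a (a + 1)
    have l₁ : T.obj₁.IsLE a := TStructure.t.isLE_truncLT_obj X (a + 1) a (by omega)
    have g₃ : T.obj₃.IsGE (a + 1) := TStructure.t.isGE_truncGE_obj X (a + 1) (a + 1) (by omega)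
    have l₃ : T.obj₃.IsLE b := by
      rw [isLE_iff]
      intro i hi
      rcases lt_or_ge i (a + 1) with h | h
      · exact isZero_of_isGE _ (a + 1) i h
      · have := H9Misc.WayOut.isIso_H_truncGE X (a + 1) i h
        exact (isZero_of_isLE X b i hi).of_iso
          (asIso ((homologyFunctor A i).map ((TStructure.t.truncGEπ (a + 1)).app X))).symm
    have c₁ : WSerre.cohIn P T.obj₁ := H9Misc.WayOut.P_truncLT P (hP := hP) hX (a + 1)
    have c₃ : WSerre.cohIn P T.obj₃ := H9Misc.WayOut.P_truncGE P (hP := hP) hX (a + 1)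
    exact he T hT ⟨c₁, ⟨a, g₁⟩, ⟨a, l₁⟩⟩ ⟨c₃, ⟨a + 1, g₃⟩, ⟨b, l₃⟩⟩
      (ih _ a a (by omega) g₁ l₁ c₁) (ih _ (a + 1) b (by omega) g₃ l₃ c₃)

variable {B : Type u'} [Category.{v'} B] [Abelian B] [HasDerivedCategory.{w'} B]
  {F : A ⥤ B} [F.Additive] [PreservesFiniteLimits F] [PreservesFiniteColimits F]
  {P : ObjectProperty A} [WSerre.IsWeakSerre P] {Q : ObjectProperty B} [WSerre.IsWeakSerre Q]

lemma homBij_single (h : ∀ M N : A, P M → P N → ∀ n : ℤ,
    HomBij F.mapDerivedCategory ((singleFunctor A 0).obj M) (((singleFunctor A 0).obj N)⟦n⟧))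
    {M N : A} (hM : P M) (hN : P N) (a b n : ℤ) :
    HomBij F.mapDerivedCategory ((singleFunctor A a).obj M) (((singleFunctor A b).obj N)⟦n⟧) :=
  ((h M N hM hN (n - b + a)).shift (-a)).of_iso
    (((singleFunctors A).shiftIso (-a) a 0 (by omega)).app M)
    (((shiftFunctorAdd' (DerivedCategory A) (n - b + a) (-a) (n - b) (by omega)).app _).symm ≪≫
      (shiftFunctorAdd' (DerivedCategory A) (-b) n (n - b) (by omega)).app _ ≪≫
      (shiftFunctor (DerivedCategory A) n).mapIso (((singleFunctors A).shiftIso (-b) b 0 (by omega)).app N))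

theorem homBij_bdd (h : ∀ M N : A, P M → P N → ∀ n : ℤ,
    HomBij F.mapDerivedCategory ((singleFunctor A 0).obj M) (((singleFunctor A 0).obj N)⟦n⟧))
    (K L : DerivedCategory A) (hK : WSerre.cohInBdd P K) (hL : WSerre.cohInBdd P L) :
    HomBij F.mapDerivedCategory K L := by
  have hR : ∀ (M : A), P M → ∀ (a n : ℤ), HomBij F.mapDerivedCategory ((singleFunctor A a).obj M) (L⟦n⟧) := by
    intro M hM a
    let S : ObjectProperty (DerivedCategory A) :=
      fun L => ∀ n : ℤ, HomBij F.mapDerivedCategory ((singleFunctor A a).obj M) (L⟦n⟧)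
    have : S.IsClosedUnderIsomorphisms := ⟨fun e hS n =>
      (hS n).of_iso (Iso.refl _) ((shiftFunctor _ n).mapIso e)⟩
    refine bdd_induction S (fun N hN b n => homBij_single h hM hN a b n) ?_ L hL
    intro T hT _ _ h₁ h₃ n
    refine HomBij.ext₂_right _ (Triangle.shift_distinguished _ hT n) (fun m => ?_) (fun m => ?_)
    · exact (h₁ (n + m)).of_iso (Iso.refl _) ((shiftFunctorAdd' _ n m (n + m) rfl).app _)
    · exact (h₃ (n + m)).of_iso (Iso.refl _) ((shiftFunctorAdd' _ n m (n + m) rfl).app _)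
  let S : ObjectProperty (DerivedCategory A) := fun K => ∀ n : ℤ, HomBij F.mapDerivedCategory (K⟦n⟧) L
  have : S.IsClosedUnderIsomorphisms := ⟨fun e hS n => (hS n).of_iso ((shiftFunctor _ n).mapIso e) (Iso.refl _)⟩
  suffices S K from (this 0).of_iso ((shiftFunctorZero _ ℤ).app K) (Iso.refl _)
  refine bdd_induction S (fun M hM a n => ?_) ?_ K hK
  · exact ((hR M hM a (-n)).shift n).of_iso (Iso.refl _)
      (((shiftFunctorAdd' (DerivedCategory A) (-n) n 0 (by omega)).app L).symm ≪≫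
        (shiftFunctorZero _ ℤ).app L)
  · intro T hT _ _ h₁ h₃ n
    refine HomBij.ext₂_left _ (Triangle.shift_distinguished _ hT n) (fun m => ?_) (fun m => ?_)
    · exact (h₁ (n + m)).of_iso ((shiftFunctorAdd' _ n m (n + m) rfl).app _) (Iso.refl _)
    · exact (h₃ (n + m)).of_iso ((shiftFunctorAdd' _ n m (n + m) rfl).app _) (Iso.refl _)

theorem equivalence_bdd (hPQ : ∀ M, P M → Q (F.obj M))
    (hFG : ∀ M : B, Q M → ∃ M', P M' ∧ Nonempty (F.obj M' ≅ M))
    (h : ∀ M N : A, P M → P N → ∀ n : ℤ,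
      HomBij F.mapDerivedCategory ((singleFunctor A 0).obj M) (((singleFunctor A 0).obj N)⟦n⟧)) :
    (∀ K : DerivedCategory A, WSerre.cohInBdd P K → WSerre.cohInBdd Q (F.mapDerivedCategory.obj K)) ∧
    (∀ K L : DerivedCategory A, WSerre.cohInBdd P K → WSerre.cohInBdd P L →
      HomBij F.mapDerivedCategory K L) ∧
    (∀ M : DerivedCategory B, WSerre.cohInBdd Q M →
      ∃ K : DerivedCategory A, WSerre.cohInBdd P K ∧ Nonempty (F.mapDerivedCategory.obj K ≅ M)) := by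
  refine ⟨fun K ⟨hK, ⟨a, ha⟩, ⟨b, hb⟩⟩ => ?_, homBij_bdd h, fun X hX => ?_⟩
  · have : K.IsGE a := ha
    have : K.IsLE b := hb
    exact ⟨cohIn_map F hPQ hK, ⟨a, isGE_map F K a⟩, ⟨b, isLE_map F K b⟩⟩
  let S : ObjectProperty (DerivedCategory B) := fun X =>
    ∃ K : DerivedCategory A, WSerre.cohInBdd P K ∧ Nonempty (F.mapDerivedCategory.obj K ≅ X)
  have : S.IsClosedUnderIsomorphisms := ⟨fun e ⟨K, hK, ⟨e'⟩⟩ => ⟨K, hK, ⟨e' ≪≫ e⟩⟩⟩
  have hshift : ∀ K : DerivedCategory A, WSerre.cohInBdd P K → WSerre.cohInBdd P (K⟦(1 : ℤ)⟧) :=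
    fun K hK => ⟨cohIn_shift P hK.1 1, TStructure.t.bounded.le_shift 1 _ hK.2⟩
  refine bdd_induction S (fun M hM n => ?_) ?_ X hX
  · obtain ⟨M', hM', ⟨e⟩⟩ := hFG M hM
    exact ⟨_, ⟨cohIn_single P hM' n, ⟨n, inferInstanceAs (DerivedCategory.IsGE _ n)⟩,
      ⟨n, inferInstanceAs (DerivedCategory.IsLE _ n)⟩⟩,
      ⟨(F.mapDerivedCategorySingleFunctor n).app M' ≪≫ (singleFunctor B n).mapIso e⟩⟩
  · rintro T hT _ _ ⟨K₁, hK₁, ⟨e₁⟩⟩ ⟨K₃, hK₃, ⟨e₃⟩⟩
    let Fd := F.mapDerivedCategory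
    obtain ⟨δ, hδ⟩ := (homBij_bdd h K₃ (K₁⟦(1 : ℤ)⟧) hK₃ (hshift K₁ hK₁)).2
      (e₃.hom ≫ T.mor₃ ≫ e₁.inv⟦(1 : ℤ)⟧' ≫ (Fd.commShiftIso (1 : ℤ)).inv.app K₁)
    obtain ⟨K₂, f, g, hT'⟩ := distinguished_cocone_triangle₂ δ
    refine ⟨K₂, ⟨cohIn_obj₂ P _ hT' hK₁.1 hK₃.1, ?_⟩, ?_⟩
    · obtain ⟨⟨a, ha⟩, ⟨b, hb⟩⟩ := hK₁.2
      obtain ⟨⟨a', ha'⟩, ⟨b', hb'⟩⟩ := hK₃.2
      have := ha; have := hb; have := ha'; have := hb'
      exact ⟨⟨min a a', TStructure.t.isGE₂ _ hT' _ (TStructure.t.isGE_of_ge K₁ (min a a') a (by omega))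
          (TStructure.t.isGE_of_ge K₃ (min a a') a' (by omega))⟩,
        ⟨max b b', TStructure.t.isLE₂ _ hT' _ (TStructure.t.isLE_of_le K₁ b (max b b') (by omega))
          (TStructure.t.isLE_of_le K₃ b' (max b b') (by omega))⟩⟩
    · have hF := rot_of_distTriang _ (rot_of_distTriang _ (Fd.map_distinguished _ hT'))
      let e := isoTriangleOfIso₁₂ _ _ hF (rot_of_distTriang _ (rot_of_distTriang _ hT)) e₃
        ((shiftFunctor (DerivedCategory B) (1 : ℤ)).mapIso e₁) (by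
          change (Fd.map δ ≫ (Fd.commShiftIso (1 : ℤ)).hom.app K₁) ≫ e₁.hom⟦(1 : ℤ)⟧' = e₃.hom ≫ T.mor₃
          rw [show Fd.map δ = _ from hδ]
          simp only [Category.assoc, Iso.inv_hom_id_app_assoc, ← Functor.map_comp, Iso.inv_hom_id]
          simp)
      let e₂ : (Fd.obj K₂)⟦(1 : ℤ)⟧ ≅ T.obj₂⟦(1 : ℤ)⟧ := Triangle.π₃.mapIso e
      exact ⟨(shiftFunctor (DerivedCategory B) (1 : ℤ)).preimageIso e₂⟩

end Groth.Agent.SiteCmpLib
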