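import Groth.Agent.SiteCmpLib.CohIn
import Groth.Agent.KFlatLib.PsiC
import Groth.Agent.H9Misc.TFactor
import Mathlib.CategoryTheory.Triangulated.Adjunction

/-! Exact functors, right adjoints on derived categories and their units and counits. -/

universe w w' v v' u u'

open CategoryTheory CategoryTheory.Limits DerivedCategory Pretriangulated

namespace Groth.Agent.SiteCmpLib

variable {A : Type u} [Category.{v} A] [Abelian A] [HasDerivedCategory.{w} A]
  {B : Type u'} [Category.{v'} B] [Abelian B] [HasDerivedCategory.{w'} B]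
  (F : A ⥤ B) [F.Additive] [PreservesFiniteLimits F] [PreservesFiniteColimits F]

lemma isZero_homology_map {X : DerivedCategory A} {i : ℤ} (h : IsZero ((homologyFunctor A i).obj X)) :
    IsZero ((homologyFunctor B i).obj (F.mapDerivedCategory.obj X)) :=
  (F.map_isZero h).of_iso ((KFlatLib.mapDCHomologyIso F i).app X)

lemma isGE_map (X : DerivedCategory A) (n : ℤ) [X.IsGE n] : (F.mapDerivedCategory.obj X).IsGE n :=
  (isGE_iff _ n).2 fun i hi => isZero_homology_map F (isZero_of_isGE X n i hi)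

lemma isLE_map (X : DerivedCategory A) (n : ℤ) [X.IsLE n] : (F.mapDerivedCategory.obj X).IsLE n :=
  (isLE_iff _ n).2 fun i hi => isZero_homology_map F (isZero_of_isLE X n i hi)

lemma cohIn_map {P : ObjectProperty A} {Q : ObjectProperty B} [Q.IsClosedUnderIsomorphisms]
    (h : ∀ M, P M → Q (F.obj M)) {X : DerivedCategory A} (hX : WSerre.cohIn P X) :
    WSerre.cohIn Q (F.mapDerivedCategory.obj X) :=
  fun i => Q.prop_of_iso ((KFlatLib.mapDCHomologyIso F i).app X).symm (h _ (hX i))

variable {F} {G : DerivedCategory B ⥤ DerivedCategory A} (adj : F.mapDerivedCategory ⊣ G)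

include adj in
lemma isGE_rightAdjoint (X : DerivedCategory B) (n : ℤ) [X.IsGE n] : (G.obj X).IsGE n := by
  let Y := G.obj X
  have hT := TStructure.t.triangleLTGE_distinguished n Y
  have : ((TStructure.t.truncLT n).obj Y).IsLE (n - 1) := TStructure.t.isLE_truncLT_obj Y n (n - 1) (by omega)
  have hι : (TStructure.t.truncLTι n).app Y = 0 := by
    refine (adj.homEquiv _ _).symm.injective ?_
    have := isLE_map F ((TStructure.t.truncLT n).obj Y) (n - 1)
    have h : ∀ φ : F.mapDerivedCategory.obj ((TStructure.t.truncLT n).obj Y) ⟶ X, φ = 0 :=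
      fun φ => TStructure.t.zero φ (n - 1) n (by omega)
    exact (h _).trans (h _).symm
  rw [isGE_iff]
  intro i hi
  have := H9Misc.isIso_map_truncLTι n i hi Y
  rw [IsZero.iff_id_eq_zero, ← cancel_epi ((homologyFunctor A i).map ((TStructure.t.truncLTι n).app Y)), hι]
  simp

section

variable {P : ObjectProperty A} {Q : ObjectProperty B}

include adj

lemma isIso_counit_of_isGE (X : DerivedCategory B) (a : ℤ) [X.IsGE a] [Q.IsClosedUnderIsomorphisms]
    (hs : ∀ M, Q M → IsIso (adj.counit.app ((singleFunctor B 0).obj M))) (hX : WSerre.cohIn Q X) :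
    IsIso (adj.counit.app X) := by
  let _ : G.CommShift ℤ := adj.rightAdjointCommShift ℤ
  have : adj.CommShift ℤ := adj.commShift_of_leftAdjoint ℤ
  have : G.IsTriangulated := adj.isTriangulated_rightAdjoint
  refine H9Misc.WayOut.isIso_of_wayOutRight adj.counit Q hs (fun n => ⟨n, fun Y hY => ?_⟩)
    (fun n => ⟨n, fun Y hY => hY⟩) X a hX
  have := isGE_rightAdjoint adj Y n
  exact isGE_map F (G.obj Y) n

lemma isIso_unit_of_isGE (Y : DerivedCategory A) (a : ℤ) [Y.IsGE a] [P.IsClosedUnderIsomorphisms]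
    (hs : ∀ M, P M → IsIso (adj.unit.app ((singleFunctor A 0).obj M))) (hY : WSerre.cohIn P Y) :
    IsIso (adj.unit.app Y) := by
  let _ : G.CommShift ℤ := adj.rightAdjointCommShift ℤ
  have : adj.CommShift ℤ := adj.commShift_of_leftAdjoint ℤ
  have : G.IsTriangulated := adj.isTriangulated_rightAdjoint
  refine H9Misc.WayOut.isIso_of_wayOutRight adj.unit P hs (fun n => ⟨n, fun Y hY => hY⟩)
    (fun n => ⟨n, fun Y hY => ?_⟩) Y a hY
  have := isGE_map F Y n
  exact isGE_rightAdjoint adj (F.mapDerivedCategory.obj Y) n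

lemma counit_and_cohIn_single [WSerre.IsWeakSerre P] (hFG : ∀ M : B, Q M → ∃ M', P M' ∧ Nonempty (F.obj M' ≅ M))
    (hu : ∀ M' : A, P M' → IsIso (adj.unit.app ((singleFunctor A 0).obj M'))) (M : B) (hM : Q M) :
    IsIso (adj.counit.app ((singleFunctor B 0).obj M)) ∧
      WSerre.cohIn P (G.obj ((singleFunctor B 0).obj M)) := by
  obtain ⟨M', hM', ⟨e⟩⟩ := hFG M hM
  let e' : F.mapDerivedCategory.obj ((singleFunctor A 0).obj M') ≅ (singleFunctor B 0).obj M :=
    (F.mapDerivedCategorySingleFunctor 0).app M' ≪≫ (singleFunctor B 0).mapIso e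
  have := hu M' hM'
  have h : IsIso (adj.counit.app (F.mapDerivedCategory.obj ((singleFunctor A 0).obj M'))) := by
    have h2 : IsIso (F.mapDerivedCategory.map (adj.unit.app ((singleFunctor A 0).obj M')) ≫
        adj.counit.app _) := by
      erw [adj.left_triangle_components]; exact IsIso.id _
    exact IsIso.of_isIso_comp_left (F.mapDerivedCategory.map (adj.unit.app ((singleFunctor A 0).obj M'))) _
  exact ⟨(NatTrans.isIso_app_iff_of_iso adj.counit e').1 h,
    (WSerre.cohIn P).prop_of_iso (asIso (adj.unit.app ((singleFunctor A 0).obj M')) ≪≫ G.mapIso e')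
      (cohIn_single P hM' 0)⟩

lemma equivalence_plus [WSerre.IsWeakSerre P] [WSerre.IsWeakSerre Q]
    (hPQ : ∀ M, P M → Q (F.obj M)) (hFG : ∀ M : B, Q M → ∃ M', P M' ∧ Nonempty (F.obj M' ≅ M))
    (hu : ∀ M' : A, P M' → IsIso (adj.unit.app ((singleFunctor A 0).obj M'))) :
    (∀ Y : DerivedCategory A, WSerre.cohInPlus P Y →
      WSerre.cohInPlus Q (F.mapDerivedCategory.obj Y) ∧ IsIso (adj.unit.app Y)) ∧
    (∀ X : DerivedCategory B, WSerre.cohInPlus Q X →
      WSerre.cohInPlus P (G.obj X) ∧ IsIso (adj.counit.app X)) := by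
  refine ⟨fun Y ⟨hY, a, ha⟩ => ?_, fun X ⟨hX, a, ha⟩ => ?_⟩
  · have : Y.IsGE a := ha
    exact ⟨⟨cohIn_map F hPQ hY, a, isGE_map F Y a⟩, isIso_unit_of_isGE adj Y a hu hY⟩
  · have : X.IsGE a := ha
    let _ : G.CommShift ℤ := adj.rightAdjointCommShift ℤ
    have : adj.CommShift ℤ := adj.commShift_of_leftAdjoint ℤ
    have : G.IsTriangulated := adj.isTriangulated_rightAdjoint
    refine ⟨⟨cohIn_map_of_isGE Q P (fun M hM => (counit_and_cohIn_single adj hFG hu M hM).2)
      (fun n Z hZ => isGE_rightAdjoint adj Z n) X a hX, a, isGE_rightAdjoint adj X a⟩, ?_⟩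
    exact isIso_counit_of_isGE adj X a (fun M hM => (counit_and_cohIn_single adj hFG hu M hM).1) hX

end

end Groth.Agent.SiteCmpLib
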