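import Groth.Prelude.Def_SiteCmp
import Groth.Agent.SiteBase.Sections
import Mathlib.CategoryTheory.Abelian.SerreClass.Basic

/-! The torsion subsheaf of an abelian sheaf. -/

universe u

open CategoryTheory CategoryTheory.Limits Opposite

namespace Groth.Agent.SiteCmpLib

variable {C : Type u} [SmallCategory C] {J : GrothendieckTopology C}

/-- A section is locally of finite order. -/
def LocTors (F : Sheaf J AddCommGrpCat.{u}) (U : C) (s : F.obj.obj (op U)) : Prop :=
  ∃ S ∈ J U, ∀ ⦃V : C⦄ (g : V ⟶ U), S g → IsOfFinAddOrder ((F.obj.map g.op).hom s)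

lemma LocTors.restrict {F : Sheaf J AddCommGrpCat.{u}} {U W : C} {s : F.obj.obj (op U)}
    (h : LocTors F U s) (f : W ⟶ U) : LocTors F W ((F.obj.map f.op).hom s) := by
  obtain ⟨S, hS, hs⟩ := h
  refine ⟨S.pullback f, J.pullback_stable f hS, fun V g hg => ?_⟩
  have e : F.obj.map (g ≫ f).op = F.obj.map f.op ≫ F.obj.map g.op := F.obj.map_comp f.op g.op
  have := hs (g ≫ f) hg
  rwa [e] at this

/-- Sections locally of finite order. -/
def torsSubgroup (F : Sheaf J AddCommGrpCat.{u}) (U : C) : AddSubgroup (F.obj.obj (op U)) where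
  carrier := {s | LocTors F U s}
  zero_mem' := ⟨⊤, J.top_mem U, fun V g _ => by simp⟩
  add_mem' := fun {a b} ⟨S, hS, hs⟩ ⟨T, hT, ht⟩ =>
    ⟨S ⊓ T, J.intersection_covering hS hT, fun V g hg => by
      rw [map_add]
      exact (AddCommute.all _ _).isOfFinAddOrder_add (hs g hg.1) (ht g hg.2)⟩
  neg_mem' := fun {a} ⟨S, hS, hs⟩ => ⟨S, hS, fun V g hg => by rw [map_neg]; exact (hs g hg).neg⟩

/-- The presheaf of sections locally of finite order. -/
noncomputable def torsPresheaf (F : Sheaf J AddCommGrpCat.{u}) : Cᵒᵖ ⥤ AddCommGrpCat.{u} where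
  obj U := AddCommGrpCat.of (torsSubgroup F U.unop)
  map {U V} f := AddCommGrpCat.ofHom (((F.obj.map f).hom.comp (torsSubgroup F U.unop).subtype).codRestrict
    (torsSubgroup F V.unop) (fun s => LocTors.restrict s.2 f.unop))
  map_id U := by ext s; simp
  map_comp f g := by ext s; simp

lemma isSheaf_torsPresheaf (F : Sheaf J AddCommGrpCat.{u}) : Presheaf.IsSheaf J (torsPresheaf F) := by
  rw [Presheaf.isSheaf_iff_isSheaf_forget J _ (CategoryTheory.forget AddCommGrpCat.{u}),
    isSheaf_iff_isSheaf_of_type]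
  intro U S hS x hx
  have hF : Presieve.IsSheaf J (F.obj ⋙ CategoryTheory.forget AddCommGrpCat.{u}) :=
    (isSheaf_iff_isSheaf_of_type _ _).1
      ((Presheaf.isSheaf_iff_isSheaf_forget J _ (CategoryTheory.forget AddCommGrpCat.{u})).1 F.property)
  let y : Presieve.FamilyOfElements (F.obj ⋙ CategoryTheory.forget AddCommGrpCat.{u}) S.arrows :=
    fun V f hf => (x f hf).1
  have hy : y.Compatible := fun V₁ V₂ W g₁ g₂ f₁ f₂ h₁ h₂ e => congrArg Subtype.val (hx g₁ g₂ h₁ h₂ e)
  obtain ⟨t, ht, huniq⟩ := hF S hS y hy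
  have htors : LocTors F U t := by
    choose R hR hRs using fun (V : C) (f : V ⟶ U) (hf : S f) => (x f hf).2
    refine ⟨Sieve.bind S.arrows (fun V f hf => R V f hf), J.bind_covering hS (fun V f hf => hR V f hf), ?_⟩
    rintro W g ⟨V, a, f, hf, ha, rfl⟩
    have e : F.obj.map (a ≫ f).op = F.obj.map f.op ≫ F.obj.map a.op := F.obj.map_comp f.op a.op
    have h2 : (F.obj.map f.op).hom t = (x f hf).1 := ht f hf
    have := hRs V f hf a ha
    rw [e, AddCommGrpCat.hom_comp, AddMonoidHom.comp_apply, h2]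
    exact this
  refine ⟨⟨t, htors⟩, fun V f hf => Subtype.ext (ht f hf), fun z hz => Subtype.ext ?_⟩
  exact huniq z.1 (fun V f hf => congrArg Subtype.val (hz f hf))

/-- The torsion subsheaf. -/
noncomputable def torsSheaf (F : Sheaf J AddCommGrpCat.{u}) : Sheaf J AddCommGrpCat.{u} :=
  ⟨torsPresheaf F, isSheaf_torsPresheaf F⟩

/-- The inclusion of the torsion subsheaf. -/
noncomputable def torsι (F : Sheaf J AddCommGrpCat.{u}) : torsSheaf F ⟶ F :=
  ⟨{ app := fun U => AddCommGrpCat.ofHom (torsSubgroup F U.unop).subtype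
     naturality := fun U V f => rfl }⟩

instance mono_torsι (F : Sheaf J AddCommGrpCat.{u}) : Mono (torsι F) := by
  have : ∀ U, Mono ((torsι F).hom.app U) := fun U =>
    (AddCommGrpCat.mono_iff_injective _).2 Subtype.val_injective
  have : Mono ((sheafToPresheaf J AddCommGrpCat.{u}).map (torsι F)) :=
    haveI : ∀ U, Mono (((sheafToPresheaf J AddCommGrpCat.{u}).map (torsι F)).app U) := this
    NatTrans.mono_of_mono_app _
  exact (sheafToPresheaf J AddCommGrpCat.{u}).mono_of_mono_map this

lemma torsionSh_torsSheaf (F : Sheaf J AddCommGrpCat.{u}) : SiteCmp.torsionSh J (torsSheaf F) := by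
  intro U s
  obtain ⟨S, hS, hs⟩ := s.2
  refine ⟨S, hS, fun V g hg => ?_⟩
  obtain ⟨n, hn, hn'⟩ := isOfFinAddOrder_iff_nsmul_eq_zero.1 (hs g hg)
  exact isOfFinAddOrder_iff_nsmul_eq_zero.2 ⟨n, hn, Subtype.ext hn'⟩

lemma mem_of_torsionSh {G F : Sheaf J AddCommGrpCat.{u}} (hG : SiteCmp.torsionSh J G) (φ : G ⟶ F)
    (U : C) (s : G.obj.obj (op U)) : LocTors F U ((φ.hom.app (op U)).hom s) := by
  obtain ⟨S, hS, hs⟩ := hG U s
  refine ⟨S, hS, fun V g hg => ?_⟩
  have e : (F.obj.map g.op).hom ((φ.hom.app (op U)).hom s) =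
      (φ.hom.app (op V)).hom ((G.obj.map g.op).hom s) :=
    (congrArg (fun t => t.hom s) (φ.hom.naturality g.op)).symm
  rw [e]
  exact AddMonoidHom.isOfFinAddOrder (φ.hom.app (op V)).hom (hs g hg)

/-- Maps out of torsion sheaves factor through the torsion subsheaf. -/
noncomputable def torsLift {G F : Sheaf J AddCommGrpCat.{u}} (hG : SiteCmp.torsionSh J G) (φ : G ⟶ F) :
    G ⟶ torsSheaf F :=
  ⟨{ app := fun U => AddCommGrpCat.ofHom
      ((φ.hom.app U).hom.codRestrict (torsSubgroup F U.unop) (fun s => mem_of_torsionSh hG φ U.unop s))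
     naturality := fun U V f => by
       ext s
       apply Subtype.ext
       exact congrArg (fun t => t.hom s) (φ.hom.naturality f) }⟩

lemma torsLift_ι {G F : Sheaf J AddCommGrpCat.{u}} (hG : SiteCmp.torsionSh J G) (φ : G ⟶ F) :
    torsLift hG φ ≫ torsι F = φ := rfl

/-- The torsion subsheaf as a functor to torsion sheaves. -/
noncomputable def torsFunctor : Sheaf J AddCommGrpCat.{u} ⥤ (SiteCmp.torsionSh J).FullSubcategory where
  obj F := ⟨torsSheaf F, torsionSh_torsSheaf F⟩
  map {F G} φ := ObjectProperty.homMk (torsLift (torsionSh_torsSheaf F) (torsι F ≫ φ))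
  map_id F := by
    apply ObjectProperty.hom_ext
    refine (cancel_mono (torsι F)).1 ?_
    exact (torsLift_ι (torsionSh_torsSheaf F) _).trans ((Category.comp_id _).trans (Category.id_comp _).symm)
  map_comp {F G H} φ ψ := by
    apply ObjectProperty.hom_ext
    refine (cancel_mono (torsι H)).1 ?_
    refine (torsLift_ι (torsionSh_torsSheaf F) _).trans ?_
    show _ = (torsLift (torsionSh_torsSheaf F) (torsι F ≫ φ) ≫
      torsLift (torsionSh_torsSheaf G) (torsι G ≫ ψ)) ≫ torsι H
    rw [Category.assoc, torsLift_ι, ← Category.assoc, ← Category.assoc, torsLift_ι]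

/-- The torsion subsheaf is right adjoint to the inclusion. -/
noncomputable def torsAdj : (SiteCmp.torsionSh J).ι ⊣ torsFunctor (J := J) :=
  Adjunction.mkOfHomEquiv
    { homEquiv := fun G F =>
        { toFun := fun φ => ObjectProperty.homMk (torsLift G.property φ)
          invFun := fun ψ => ψ.hom ≫ torsι F
          left_inv := fun φ => torsLift_ι G.property φ
          right_inv := fun ψ => by
            apply ObjectProperty.hom_ext
            refine (cancel_mono (torsι F)).1 ?_
            exact torsLift_ι G.property _ }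
      homEquiv_naturality_left_symm := fun f g => Category.assoc f.hom g.hom (torsι _)
      homEquiv_naturality_right := fun {G F F'} f g => by
        apply ObjectProperty.hom_ext
        refine (cancel_mono (torsι F')).1 ?_
        refine (torsLift_ι G.property _).trans ?_
        show _ = (torsLift G.property f ≫ torsLift (torsionSh_torsSheaf F) (torsι F ≫ g)) ≫ torsι F'
        rw [Category.assoc, torsLift_ι, ← Category.assoc, torsLift_ι] }

lemma torsAdj_counit_app (F : Sheaf J AddCommGrpCat.{u}) :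
    (Adjunction.counit (torsAdj (J := J))).app F = torsι F := by
  exact Category.id_comp _

lemma freeAbelianGroup_nsmul_injective {X : Type u} (n : ℕ) (hn : 0 < n) {a b : FreeAbelianGroup X}
    (h : n • a = n • b) : a = b := by
  apply (FreeAbelianGroup.equivFinsupp X).injective
  ext i
  have h2 := congrArg (fun t => (FreeAbelianGroup.equivFinsupp X t) i) h
  simp only [map_nsmul, Finsupp.smul_apply, nsmul_eq_mul] at h2
  exact mul_left_cancel₀ (Nat.cast_ne_zero.2 hn.ne') h2

/-- Multiplication by a positive integer is an epimorphism on injective sheaves. -/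
lemma epi_nsmul_of_injective (I : Sheaf J AddCommGrpCat.{u}) [Injective I] (n : ℕ) (hn : 0 < n) :
    Epi (n • 𝟙 I) := by
  have hm : ∀ U, Mono (n • 𝟙 (CohCx.freeSheaf J U)) := fun U => by
    have h1 : Mono (n • 𝟙 (yoneda.obj U ⋙ AddCommGrpCat.free.{u})) := by
      have : ∀ V, Mono ((n • 𝟙 (yoneda.obj U ⋙ AddCommGrpCat.free.{u})).app V) := fun V =>
        (AddCommGrpCat.mono_iff_injective _).2 (by
          have : ((n • 𝟙 (yoneda.obj U ⋙ AddCommGrpCat.free.{u})).app V).hom =
              n • AddMonoidHom.id _ := by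
            rw [NatTrans.app_nsmul, NatTrans.id_app]; rfl
          exact fun a b h => freeAbelianGroup_nsmul_injective n hn
            (((DFunLike.congr_fun this a).symm.trans h).trans (DFunLike.congr_fun this b)))
      exact NatTrans.mono_of_mono_app _
    have := (presheafToSheaf J AddCommGrpCat.{u}).map_mono (n • 𝟙 (yoneda.obj U ⋙ AddCommGrpCat.free.{u}))
    rwa [Functor.map_nsmul, CategoryTheory.Functor.map_id] at this
  have : ∀ U, Epi ((n • 𝟙 I).hom.app U) := fun U => (AddCommGrpCat.epi_iff_surjective _).2 fun s => by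
    have := hm U.unop
    let φ := (SiteBase.secEquiv J U.unop I).symm s
    let ψ := Injective.factorThru φ (n • 𝟙 (CohCx.freeSheaf J U.unop))
    have h : n • ψ = φ := by
      have := Injective.comp_factorThru φ (n • 𝟙 (CohCx.freeSheaf J U.unop))
      rwa [Preadditive.nsmul_comp, Category.id_comp] at this
    refine ⟨SiteBase.secEquiv J U.unop I ψ, ?_⟩
    have h2 := congrArg (SiteBase.secEquiv J U.unop I) h
    rw [map_nsmul, AddEquiv.apply_symm_apply] at h2
    exact h2
  have : Epi ((sheafToPresheaf J AddCommGrpCat.{u}).map (n • 𝟙 I)) :=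
    haveI : ∀ U, Epi (((sheafToPresheaf J AddCommGrpCat.{u}).map (n • 𝟙 I)).app U) := this
    NatTrans.epi_of_epi_app _
  exact (sheafToPresheaf J AddCommGrpCat.{u}).epi_of_epi_map this

/-- A sheaf killed by a positive integer is torsion. -/
lemma torsionSh_of_nsmul (F : Sheaf J AddCommGrpCat.{u}) (n : ℕ) (hn : 0 < n) (h : n • 𝟙 F = 0) :
    SiteCmp.torsionSh J F := fun U s => ⟨⊤, J.top_mem U, fun V g _ =>
  isOfFinAddOrder_iff_nsmul_eq_zero.2 ⟨n, hn, congrArg (fun t : F ⟶ F => (t.hom.app (op V)).hom _) h⟩⟩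

/-- A torsion sheaf on which multiplications are injective is zero. -/
lemma isZero_of_torsion_of_mono (F : Sheaf J AddCommGrpCat.{u}) (hF : SiteCmp.torsionSh J F)
    (h : ∀ n : ℕ, 0 < n → Mono (n • 𝟙 F)) : IsZero F := by
  rw [IsZero.iff_id_eq_zero]
  refine Sheaf.hom_ext (NatTrans.ext (funext fun U => AddCommGrpCat.ext fun s => ?_))
  have hsep : Presieve.IsSeparated J (F.obj ⋙ CategoryTheory.forget AddCommGrpCat.{u}) :=
    ((isSheaf_iff_isSheaf_of_type _ _).1
      ((Presheaf.isSheaf_iff_isSheaf_forget J _ (CategoryTheory.forget AddCommGrpCat.{u})).1 F.property)).isSeparated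
  obtain ⟨S, hS, hs⟩ := hF U.unop s
  show s = 0
  refine (hsep S hS).ext fun V g hg => ?_
  show (F.obj.map g.op).hom s = (F.obj.map g.op).hom 0
  rw [map_zero]
  obtain ⟨n, hn, hn'⟩ := isOfFinAddOrder_iff_nsmul_eq_zero.1 (hs g hg)
  have := h n hn
  have : Mono ((sheafToPresheaf J AddCommGrpCat.{u}).map (n • 𝟙 F)) := inferInstance
  have := (AddCommGrpCat.mono_iff_injective _).1 (NatTrans.mono_iff_mono_app _ |>.1 this (op V))
  refine this ?_
  rw [map_zero]
  exact hn'

end Groth.Agent.SiteCmpLib
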