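import Groth.Prelude.Def_WeakSerre
import Groth.Agent.SiteCmpLib.TorsionSub
import Groth.Agent.SiteCmpLib.Flat
import Groth.Agent.H9Misc.GPDerived
import Groth.Agent.TriCat.GrothInst
import Mathlib.CategoryTheory.Abelian.Subcategory

/-! The derived category of torsion abelian sheaves. -/

universe u

open CategoryTheory CategoryTheory.Limits DerivedCategory

attribute [local instance] HasDerivedCategory.standard

namespace Groth.Agent.SiteCmpLib

variable {C : Type u} [SmallCategory C] {J : GrothendieckTopology C} [(SiteCmp.torsionSh J).IsSerreClass]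

local notation "Tor" => SiteCmp.torsionSh J

/-- Full subcategories of weak Serre classes are abelian. -/
@[instance_reducible]
noncomputable def abelianWeakSerre {D : Type*} [Category D] [Abelian D] (P : ObjectProperty D)
    [WSerre.IsWeakSerre P] : Abelian P.FullSubcategory := inferInstance

noncomputable instance abelianTorsion : Abelian (SiteCmp.torsionSh J).FullSubcategory :=
  abelianWeakSerre (SiteCmp.torsionSh J)

instance : (torsFunctor (J := J)).Additive := (torsAdj (J := J)).right_adjoint_additive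

/-- The quotient of an injective sheaf by its torsion subsheaf has injective multiplications. -/
lemma mono_nsmul_cokernel (I : Sheaf J AddCommGrpCat.{u}) (n : ℕ) (hn : 0 < n) [Epi (n • 𝟙 I)] :
    Mono (n • 𝟙 (cokernel (torsι I))) := by
  let q := cokernel.π (torsι I)
  let ν := n • 𝟙 (cokernel (torsι I))
  let K := kernel ν
  have hK : Tor K := torsionSh_of_nsmul K n hn ((cancel_mono (kernel.ι ν)).1 (by
    rw [zero_comp, Preadditive.nsmul_comp, Category.id_comp, ← kernel.condition ν,
      Preadditive.comp_nsmul, Category.comp_id]))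
  let P := pullback q (kernel.ι ν)
  let w : P ⟶ I := pullback.fst q (kernel.ι ν)
  have hP : Tor P := by
    let a : torsSheaf I ⟶ P := pullback.lift (torsι I) 0 (by simp [q])
    have ha : a ≫ w = torsι I := pullback.lift_fst _ _ _
    have ha' : a ≫ pullback.snd q (kernel.ι ν) = 0 := pullback.lift_snd _ _ _
    have hex : (ShortComplex.mk a (pullback.snd q (kernel.ι ν)) ha').Exact := by
      rw [ShortComplex.exact_iff_exact_up_to_refinements]
      intro T x hx
      have hx' : (x ≫ w) ≫ q = 0 := by
        dsimp only [w]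
        rw [Category.assoc, pullback.condition, reassoc_of% hx, zero_comp]
      obtain ⟨T', π, hπ, y, hy⟩ := (ShortComplex.exact_cokernel (torsι I)).exact_up_to_refinements (x ≫ w) hx'
      refine ⟨T', π, hπ, y, pullback.hom_ext ?_ ?_⟩
      · show (π ≫ x) ≫ w = (y ≫ a) ≫ w
        rw [Category.assoc, Category.assoc, ha]
        exact hy
      · simp [ha', hx]
    exact (Tor).prop_X₂_of_exact hex (torsionSh_torsSheaf I) hK
  have h : w ≫ q = 0 := by
    rw [← torsLift_ι hP w, Category.assoc, cokernel.condition, comp_zero]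
  have : Epi q := inferInstance
  have h2 : kernel.ι ν = 0 := by
    rw [← cancel_epi (pullback.snd q (kernel.ι ν)), comp_zero, ← pullback.condition]
    exact h
  exact Preadditive.mono_of_kernel_zero h2

lemma isIso_nsmul_cokernel (I : Sheaf J AddCommGrpCat.{u}) [Injective I] (n : ℕ) (hn : 0 < n) :
    IsIso (n • 𝟙 (cokernel (torsι I))) := by
  have := epi_nsmul_of_injective I n hn
  have := mono_nsmul_cokernel I n hn
  have : Epi (cokernel.π (torsι I) ≫ (n • 𝟙 (cokernel (torsι I)))) := by
    rw [Preadditive.comp_nsmul, Category.comp_id,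
      show n • cokernel.π (torsι I) = (n • 𝟙 I) ≫ cokernel.π (torsι I) by
        rw [Preadditive.nsmul_comp, Category.id_comp]]
    infer_instance
  have := epi_of_epi (cokernel.π (torsι I)) (n • 𝟙 (cokernel (torsι I)))
  exact isIso_of_mono_of_epi _

/-- The counit on complexes. -/
noncomputable def torsCx (I : CochainComplex (Sheaf J AddCommGrpCat.{u}) ℤ) :
    ((Tor).ι.mapHomologicalComplex (ComplexShape.up ℤ)).obj
      (((torsFunctor (J := J)).mapHomologicalComplex (ComplexShape.up ℤ)).obj I) ⟶ I where
  f i := torsι (I.X i)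
  comm' i j _ := (torsLift_ι (torsionSh_torsSheaf (I.X i)) (torsι (I.X i) ≫ I.d i j)).symm

lemma quasiIso_torsCx (I : CochainComplex (Sheaf J AddCommGrpCat.{u}) ℤ) (hI : ∀ n, Injective (I.X n))
    (hH : ∀ n, Tor (I.homology n)) : QuasiIso (torsCx I) := by
  have : Mono (torsCx I) := HomologicalComplex.mono_of_mono_f _ fun i => mono_torsι _
  let S := ShortComplex.mk (torsCx I) (cokernel.π (torsCx I)) (cokernel.condition _)
  have hS : S.ShortExact := { exact := ShortComplex.exact_cokernel (torsCx I) }
  let eX : ∀ i, S.X₃.X i ≅ cokernel (torsι (I.X i)) := fun i =>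
    PreservesCokernel.iso (HomologicalComplex.eval _ (ComplexShape.up ℤ) i) (torsCx I)
  have hiso : ∀ (n : ℕ), 0 < n → IsIso (n • 𝟙 S.X₃) := fun n hn => by
    have : ∀ i, IsIso ((n • 𝟙 S.X₃).f i) := fun i => by
      have := hI i
      have := isIso_nsmul_cokernel (I.X i) n hn
      have e : (n • 𝟙 S.X₃).f i = (eX i).hom ≫ (n • 𝟙 (cokernel (torsι (I.X i)))) ≫ (eX i).inv := by
        rw [Preadditive.nsmul_comp, Category.id_comp, Preadditive.comp_nsmul, Iso.hom_inv_id]
        exact (HomologicalComplex.nsmul_f_apply _ _ _).trans rfl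
      rw [e]; infer_instance
    exact HomologicalComplex.Hom.isIso_of_components _
  have hT : ∀ i, Tor (S.X₁.homology i) := fun i =>
    (Tor).prop_of_iso (((((torsFunctor (J := J)).mapHomologicalComplex (ComplexShape.up ℤ)).obj I).sc i).mapHomologyIso
      (Tor).ι).symm ((((torsFunctor (J := J)).mapHomologicalComplex (ComplexShape.up ℤ)).obj I).homology i).property
  have h₃ : ∀ i, IsZero (S.X₃.homology i) := fun i => by
    refine isZero_of_torsion_of_mono _
      ((Tor).prop_X₂_of_exact (hS.homology_exact₃ i (i + 1) (by simp)) (hH i) (hT (i + 1))) fun n hn => ?_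
    have := hiso n hn
    let H := HomologicalComplex.homologyFunctor (Sheaf J AddCommGrpCat.{u}) (ComplexShape.up ℤ) i
    have h1 : IsIso (H.map (n • 𝟙 S.X₃)) := inferInstance
    have e : H.map (n • 𝟙 S.X₃) = n • 𝟙 (S.X₃.homology i) := by
      rw [Functor.map_nsmul, CategoryTheory.Functor.map_id]; rfl
    rw [e] at h1
    exact @IsIso.mono_of_iso _ _ _ _ _ h1
  refine ⟨fun i => ?_⟩
  rw [quasiIsoAt_iff_isIso_homologyMap]
  have : Mono (HomologicalComplex.homologyMap S.f i) :=
    (hS.homology_exact₁ (i - 1) i (by simp)).mono_g ((h₃ _).eq_of_src _ _)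
  have : Epi (HomologicalComplex.homologyMap S.f i) :=
    (hS.homology_exact₂ i).epi_f ((h₃ _).eq_of_tgt _ _)
  exact isIso_of_mono_of_epi (HomologicalComplex.homologyMap S.f i)

theorem toDerived_torsion :
    (WSerre.toDerived (Tor)).Full ∧ (WSerre.toDerived (Tor)).Faithful ∧
      ∀ K : DerivedCategory (Sheaf J AddCommGrpCat.{u}), WSerre.cohIn (Tor) K ↔ (WSerre.toDerived (Tor)).essImage K := by
  have := H9Misc.GPDerived.qh_isLeftAdjoint (Sheaf J AddCommGrpCat.{u})
  let adjQ := Adjunction.ofIsLeftAdjoint (Qh (C := Sheaf J AddCommGrpCat.{u}))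
  let F := WSerre.toDerived (Tor)
  let a := H9Misc.AdjDescend.derivedAdj (torsAdj (J := J)) adjQ
  have hcoh : ∀ K, WSerre.cohIn (Tor) (F.obj K) := fun K i =>
    (Tor).prop_of_iso ((KFlatLib.mapDCHomologyIso (Tor).ι i).app K).symm
      ((DerivedCategory.homologyFunctor _ i).obj K).property
  have hc : ∀ X, WSerre.cohIn (Tor) X → IsIso (a.counit.app X) := fun X hX => by
    have := Localization.essSurj (Q (C := Sheaf J AddCommGrpCat.{u})) (HomologicalComplex.quasiIso (Sheaf J AddCommGrpCat.{u}) (ComplexShape.up ℤ))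
    obtain ⟨I, f, hI, hf, -, hinj⟩ := TriCat.exists_kInjective_resolution' (Q.objPreimage X)
    let eX : Qh.obj ((HomotopyCategory.quotient (Sheaf J AddCommGrpCat.{u}) _).obj I) ≅ X :=
      (quotientCompQhIso (Sheaf J AddCommGrpCat.{u})).app I ≪≫ (asIso (Q.map f)).symm ≪≫ Q.objObjPreimageIso X
    have hun := TriCat.isIso_unit_of_isKInjective adjQ I
    have hq : QuasiIso (torsCx I) := quasiIso_torsCx I hinj fun n =>
      (Tor).prop_of_iso (((homologyFunctor (Sheaf J AddCommGrpCat.{u}) n).mapIso eX).symm ≪≫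
        (homologyFunctor (Sheaf J AddCommGrpCat.{u}) n).mapIso ((quotientCompQhIso (Sheaf J AddCommGrpCat.{u})).app I) ≪≫
        (homologyFunctorFactors (Sheaf J AddCommGrpCat.{u}) n).app I) (hX n)
    let b := H9Misc.SerreDerived.adjHtpy (ComplexShape.up ℤ) (torsAdj (J := J))
    have h1 : IsIso (Qh.map (b.counit.app ((HomotopyCategory.quotient (Sheaf J AddCommGrpCat.{u}) _).obj I))) := by
      have : b.counit.app ((HomotopyCategory.quotient (Sheaf J AddCommGrpCat.{u}) _).obj I) =
          (HomotopyCategory.quotient (Sheaf J AddCommGrpCat.{u}) _).map (torsCx I) := by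
        refine congrArg (HomotopyCategory.quotient (Sheaf J AddCommGrpCat.{u}) _).map ?_
        exact HomologicalComplex.hom_ext _ _ fun i => torsAdj_counit_app (I.X i)
      rw [this]
      exact (NatIso.isIso_map_iff (quotientCompQhIso (Sheaf J AddCommGrpCat.{u})) (torsCx I)).2
        ((isIso_Q_map_iff_quasiIso (φ := torsCx I)).2 hq)
    have h2 : IsIso (Qh.map (b.counit.app (Qh.rightAdjoint.obj X))) := by
      let e : (HomotopyCategory.quotient (Sheaf J AddCommGrpCat.{u}) _).obj I ≅ Qh.rightAdjoint.obj X :=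
        @asIso _ _ _ _ (adjQ.unit.app _) hun ≪≫ Qh.rightAdjoint.mapIso eX
      exact (NatTrans.isIso_app_iff_of_iso (Functor.whiskerRight b.counit Qh) e).1 h1
    have hq' : IsIso (adjQ.counit.app X) := by
      have h3 : IsIso (adjQ.counit.app (Qh.obj ((HomotopyCategory.quotient (Sheaf J AddCommGrpCat.{u}) _).obj I))) := by
        have : IsIso (Qh.map (adjQ.unit.app ((HomotopyCategory.quotient (Sheaf J AddCommGrpCat.{u}) _).obj I)) ≫ adjQ.counit.app _) := by
          erw [adjQ.left_triangle_components]; exact IsIso.id _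
        exact IsIso.of_isIso_comp_left (Qh.map (adjQ.unit.app _)) _
      exact (NatTrans.isIso_app_iff_of_iso adjQ.counit eX).1 h3
    rw [show a = H9Misc.AdjDescend.derivedAdj (torsAdj (J := J)) adjQ from rfl,
      H9Misc.AdjDescend.derivedAdj, H9Misc.AdjDescend.descend_counit_app]
    have : IsIso ((b.comp adjQ).counit.app X) := by
      rw [Adjunction.comp_counit_app]
      exact IsIso.comp_isIso' h2 hq'
    exact IsIso.comp_isIso' (Iso.isIso_hom ((Tor).ι.mapDerivedCategoryFactorsh.app _)) this
  have hrefl : ∀ {K L} (f : K ⟶ L), IsIso (F.map f) → IsIso f := fun {K L} f hf => by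
    rw [DerivedCategory.isIso_iff]
    intro n
    have : IsIso ((Tor).ι.map ((homologyFunctor _ n).map f)) :=
      (NatIso.isIso_map_iff (KFlatLib.mapDCHomologyIso (Tor).ι n) f).1
        (inferInstanceAs (IsIso ((homologyFunctor _ n).map (F.map f))))
    exact isIso_of_reflects_iso _ (Tor).ι
  have hu : IsIso a.unit := by
    have : ∀ K, IsIso (a.unit.app K) := fun K => by
      refine hrefl _ ?_
      have := hc (F.obj K) (hcoh K)
      have : IsIso (F.map (a.unit.app K) ≫ a.counit.app (F.obj K)) := by
        erw [a.left_triangle_components]; exact IsIso.id _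
      exact IsIso.of_isIso_comp_right _ (a.counit.app (F.obj K))
    exact NatIso.isIso_of_isIso_app _
  refine ⟨a.fullyFaithfulLOfIsIsoUnit.full, a.fullyFaithfulLOfIsIsoUnit.faithful, fun X => ⟨fun hX => ?_, ?_⟩⟩
  · have := hc X hX
    exact ⟨_, ⟨asIso (a.counit.app X)⟩⟩
  · rintro ⟨K, ⟨e⟩⟩
    exact (WSerre.cohIn (Tor)).prop_of_iso e (hcoh K)

end Groth.Agent.SiteCmpLib
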