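import Groth.Agent.SiteCmpLib.Flat

/-! Equivalences of unbounded derived categories with cohomology in weak Serre classes. -/

set_option autoImplicit false

universe w w' v v' u u'

open CategoryTheory CategoryTheory.Limits DerivedCategory Pretriangulated

namespace Groth.Agent.SiteCmpLib

variable {A : Type u} [Category.{v} A] [Abelian A] [HasDerivedCategory.{w} A]
  {B : Type u'} [Category.{v'} B] [Abelian B] [HasDerivedCategory.{w'} B]
  (F : A ⥤ B) [F.Additive] [PreservesFiniteLimits F] [PreservesFiniteColimits F]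

lemma isIso_homology_map {X Y : DerivedCategory A} (g : X ⟶ Y) (i : ℤ)
    [IsIso ((homologyFunctor A i).map g)] :
    IsIso ((homologyFunctor B i).map (F.mapDerivedCategory.map g)) :=
  (NatIso.isIso_map_iff (KFlatLib.mapDCHomologyIso F i) g).2 (inferInstanceAs
    (IsIso (F.map ((homologyFunctor A i).map g))))

lemma isIso_map_of_square {C : Type*} [Category C] {D : Type*} [Category D] (H : C ⥤ D)
    {X Y Z W : C} {f : X ⟶ Y} {g : Y ⟶ W} {a : X ⟶ Z} {h : Z ⟶ W} (e : f ≫ g = a ≫ h)
    (hf : IsIso (H.map f)) (hg : IsIso (H.map g)) (hh : IsIso (H.map h)) : IsIso (H.map a) := by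
  have : IsIso (H.map (a ≫ h)) := by rw [← e, Functor.map_comp]; infer_instance
  rw [Functor.map_comp] at this
  exact IsIso.of_isIso_comp_right (H.map a) (H.map h)

lemma exists_iso_truncGE_map (Y : DerivedCategory A) (n : ℤ) :
    ∃ φ : (TStructure.t.truncGE n).obj (F.mapDerivedCategory.obj Y) ⟶
        F.mapDerivedCategory.obj ((TStructure.t.truncGE n).obj Y),
      IsIso φ ∧ (TStructure.t.truncGEπ n).app (F.mapDerivedCategory.obj Y) ≫ φ =
        F.mapDerivedCategory.map ((TStructure.t.truncGEπ n).app Y) := by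
  have : ((TStructure.t.truncGE n).obj Y).IsGE n := inferInstanceAs (TStructure.t.IsGE _ _)
  have : TStructure.t.IsGE (F.mapDerivedCategory.obj ((TStructure.t.truncGE n).obj Y)) n :=
    isGE_map F _ n
  let φ := TStructure.t.descTruncGE (F.mapDerivedCategory.map ((TStructure.t.truncGEπ n).app Y)) n
  have hφ : (TStructure.t.truncGEπ n).app (F.mapDerivedCategory.obj Y) ≫ φ = _ :=
    TStructure.t.π_descTruncGE _ n
  refine ⟨φ, (DerivedCategory.isIso_iff _ _).2 fun i => ?_, hφ⟩
  by_cases hi : n ≤ i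
  · have h1 := H9Misc.isIso_map_truncGEπ n i hi (F.mapDerivedCategory.obj Y)
    have h0 := H9Misc.isIso_map_truncGEπ n i hi Y
    have h2 := isIso_homology_map F ((TStructure.t.truncGEπ n).app Y) i
    rw [← hφ, Functor.map_comp] at h2
    exact @IsIso.of_isIso_comp_left _ _ _ _ _ _ _ h1 h2
  · have hz : ∀ Z : DerivedCategory B, TStructure.t.IsGE Z n →
        IsZero ((homologyFunctor B i).obj Z) := fun Z hZ => (isGE_iff Z n).1 hZ i (by omega)
    exact (hz _ inferInstance).isIso (hz _ inferInstance) _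

variable {F} {G : DerivedCategory B ⥤ DerivedCategory A} (adj : F.mapDerivedCategory ⊣ G)
  {P : ObjectProperty A} {Q : ObjectProperty B}

include adj in
/-- An equivalence on bounded below objects extends to all objects if the right adjoint is
compatible with truncations. -/
theorem equivalence_of_truncation [WSerre.IsWeakSerre P] [WSerre.IsWeakSerre Q]
    (hPQ : ∀ M, P M → Q (F.obj M)) (hFG : ∀ M : B, Q M → ∃ M', P M' ∧ Nonempty (F.obj M' ≅ M))
    (hu : ∀ M' : A, P M' → IsIso (adj.unit.app ((singleFunctor A 0).obj M')))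
    (hG : ∀ X : DerivedCategory B, WSerre.cohIn Q X → ∀ (n : ℕ) (j : ℤ), -(n : ℤ) ≤ j →
      IsIso ((homologyFunctor A j).map (G.map ((TStructure.t.truncGEπ (-(n : ℤ))).app X)))) :
    (∀ Y : DerivedCategory A, WSerre.cohIn P Y →
      WSerre.cohIn Q (F.mapDerivedCategory.obj Y) ∧ IsIso (adj.unit.app Y)) ∧
    (∀ X : DerivedCategory B, WSerre.cohIn Q X →
      WSerre.cohIn P (G.obj X) ∧ IsIso (adj.counit.app X)) := by
  obtain ⟨h1, h2⟩ := equivalence_plus adj hPQ hFG hu
  refine ⟨fun Y hY => ⟨cohIn_map F hPQ hY, (DerivedCategory.isIso_iff _ _).2 fun j => ?_⟩,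
    fun X hX => ?_⟩
  · let n : ℕ := (-j).toNat
    have hn : -(n : ℤ) ≤ j := by omega
    let π := (TStructure.t.truncGEπ (-(n : ℤ))).app Y
    have := H9Misc.isIso_map_truncGEπ (-(n : ℤ)) j hn Y
    have hπ : IsIso ((homologyFunctor A j).map (G.map (F.mapDerivedCategory.map π))) := by
      obtain ⟨φ, hφ, e⟩ := exists_iso_truncGE_map F Y (-(n : ℤ))
      have := hG _ (cohIn_map F hPQ hY) n j hn
      rw [← e, Functor.map_comp, Functor.map_comp]
      infer_instance
    have e : π ≫ adj.unit.app _ = adj.unit.app Y ≫ G.map (F.mapDerivedCategory.map π) :=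
      adj.unit.naturality π
    exact isIso_map_of_square _ e (H9Misc.isIso_map_truncGEπ (-(n : ℤ)) j hn Y)
      (@Functor.map_isIso _ _ _ _ _ _ (homologyFunctor A j) _ (h1 _ ⟨H9Misc.WayOut.P_truncGE P (hP := fun Z hZ => prop_of_isZero P hZ) hY (-(n : ℤ)),
        _, (inferInstanceAs (TStructure.t.IsGE _ _) :
          ((TStructure.t.truncGE (-(n : ℤ))).obj Y).IsGE (-(n : ℤ)))⟩).2) hπ
  · have hπ : ∀ j : ℤ, IsIso ((homologyFunctor A j).map
        (G.map ((TStructure.t.truncGEπ (-((-j).toNat : ℤ))).app X))) :=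
      fun j => hG X hX _ j (by omega)
    have ht : ∀ n : ℕ, WSerre.cohInPlus Q ((TStructure.t.truncGE (-(n : ℤ))).obj X) := fun n =>
      ⟨H9Misc.WayOut.P_truncGE Q (hP := fun Z hZ => prop_of_isZero Q hZ) hX _, _,
        (inferInstanceAs (TStructure.t.IsGE _ _) :
          ((TStructure.t.truncGE (-(n : ℤ))).obj X).IsGE (-(n : ℤ)))⟩
    refine ⟨fun j => P.prop_of_iso (@asIso _ _ _ _ _ (hπ j)).symm ((h2 _ (ht _)).1.1 j),
      (DerivedCategory.isIso_iff _ _).2 fun j => ?_⟩
    let n : ℕ := (-j).toNat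
    let π := (TStructure.t.truncGEπ (-(n : ℤ))).app X
    have : IsIso (adj.counit.app ((TStructure.t.truncGE (-(n : ℤ))).obj X)) := (h2 _ (ht n)).2
    have : IsIso ((homologyFunctor A j).map (G.map π)) := hπ j
    have := isIso_homology_map F (G.map π) j
    have := H9Misc.isIso_map_truncGEπ (-(n : ℤ)) j (by omega) X
    have e : F.mapDerivedCategory.map (G.map π) ≫ adj.counit.app _ = adj.counit.app X ≫ π :=
      adj.counit.naturality π
    exact isIso_map_of_square _ e (isIso_homology_map F (G.map π) j) inferInstance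
      (H9Misc.isIso_map_truncGEπ (-(n : ℤ)) j (by omega) X)

end Groth.Agent.SiteCmpLib
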