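import Groth.Prelude.Def_WeakSerre
import Mathlib.CategoryTheory.Abelian.Basic
import Mathlib.CategoryTheory.Adjunction.Limits
import Mathlib.CategoryTheory.Adjunction.Reflective

/-! Images of weak Serre classes under fully faithful right adjoints of exact functors. -/

set_option autoImplicit false

universe v v' u u'

open CategoryTheory CategoryTheory.Limits

namespace Groth.Agent.SiteCmpLib

variable {A : Type u} [Category.{v} A] [Abelian A] {B : Type u'} [Category.{v'} B] [Abelian B]
  (F : B ⥤ A) (G : A ⥤ B) (adj : F ⊣ G) [PreservesFiniteLimits F] [G.Full] [G.Faithful]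
  [F.Additive] [G.Additive] (P : ObjectProperty A) [WSerre.IsWeakSerre P]

omit [G.Additive] [F.Additive] [PreservesFiniteLimits F] [WSerre.IsWeakSerre P] in
include adj in
/-- The unit is invertible on the image. -/
lemma isIso_unit_of_map {Y : B} (hY : P.map G Y) : IsIso (adj.unit.app Y) := by
  obtain ⟨X, -, ⟨e⟩⟩ := hY
  refine (NatTrans.isIso_app_iff_of_iso adj.unit e).1 ?_
  have : IsIso (adj.counit.app X) := inferInstance
  have h : IsIso (adj.unit.app (G.obj X) ≫ G.map (adj.counit.app X)) :=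
    (adj.right_triangle_components X).symm ▸ IsIso.id _
  exact IsIso.of_isIso_comp_right (adj.unit.app (G.obj X)) (G.map (adj.counit.app X))

include adj in
/-- The image of a weak Serre class is weak Serre if `G` is exact on it. -/
theorem isWeakSerre_map
    (hepi : ∀ S : ShortComplex A, S.ShortExact → P S.X₁ → Epi (G.map S.g)) :
    WSerre.IsWeakSerre (P.map G) := by
  have : PreservesLimitsOfSize.{0, 0} G := adj.rightAdjoint_preservesLimits
  have : PreservesColimitsOfSize.{0, 0} F := adj.leftAdjoint_preservesColimits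
  have : PreservesFiniteLimits G :=
    inferInstance
  have : G.PreservesMonomorphisms := Functor.preservesMonomorphisms_of_adjunction adj
  have hne : (P.map G).ContainsZero := by
    obtain ⟨Z, hZ, hPZ⟩ := P.exists_prop_of_containsZero
    exact ⟨⟨G.obj Z, G.map_isZero hZ, P.prop_map_obj G hPZ⟩⟩
  refine { hne with
    kernels_le := ?_, cokernels_le := ?_, prop_X₂_of_shortExact := ?_ }
  · rintro _ ⟨f, k, hk, ⟨⟨M, hM, ⟨eM⟩⟩, ⟨N, hN, ⟨eN⟩⟩⟩⟩
    let g : M ⟶ N := G.preimage (eM.hom ≫ f ≫ eN.inv)
    refine ⟨kernel g, P.prop_kernel g hM hN, ⟨?_⟩⟩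
    refine PreservesKernel.iso G g ≪≫ ?_ ≪≫ (limit.isLimit _).conePointUniqueUpToIso hk
    exact kernel.mapIso (G.map g) f eM eN (by simp [g])
  · rintro _ ⟨f, k, hk, ⟨⟨M, hM, ⟨eM⟩⟩, ⟨N, hN, ⟨eN⟩⟩⟩⟩
    let g : M ⟶ N := G.preimage (eM.hom ≫ f ≫ eN.inv)
    refine ⟨cokernel g, P.prop_cokernel g hM hN, ⟨?_⟩⟩
    let S₁ : ShortComplex A := ShortComplex.mk (kernel.ι g) (Abelian.factorThruImage g)
      (by rw [← cancel_mono (Abelian.image.ι g)]; simp)
    have hS₁ : S₁.ShortExact :=
      ShortComplex.ShortExact.mk' (by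
        rw [ShortComplex.exact_iff_exact_up_to_refinements]
        intro T x (hx : x ≫ Abelian.factorThruImage g = 0)
        refine ⟨T, 𝟙 _, inferInstance, kernel.lift g x ?_, ?_⟩
        · rw [← Abelian.image.fac g, ← Category.assoc, hx, zero_comp]
        · simp [S₁]) inferInstance inferInstance
    let S₂ : ShortComplex A := ShortComplex.mk (Abelian.image.ι g) (cokernel.π g) (by simp)
    have hS₂ : S₂.ShortExact :=
      ShortComplex.ShortExact.mk' (S₂.exact_of_f_is_kernel (kernelIsKernel _)) inferInstance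
        inferInstance
    have hI : P S₂.X₁ := P.prop_kernel _ hN (P.prop_cokernel g hM hN)
    have he₁ : Epi (G.map (Abelian.factorThruImage g)) := hepi S₁ hS₁ (P.prop_kernel g hM hN)
    have he₂ : Epi (G.map (cokernel.π g)) := hepi S₂ hS₂ hI
    have hx : (S₂.map G).ShortExact :=
      ShortComplex.ShortExact.mk' ((S₂.exact_and_mono_f_iff_f_is_kernel.1
        ⟨hS₂.exact, hS₂.mono_f⟩) |>.elim fun hl => (S₂.map G).exact_of_f_is_kernel
          (KernelFork.mapIsLimit _ hl G)) (inferInstanceAs (Mono (G.map (Abelian.image.ι g)))) he₂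
    have hc : IsColimit (CokernelCofork.ofπ (G.map (cokernel.π g))
        (show G.map g ≫ G.map (cokernel.π g) = 0 by rw [← G.map_comp, cokernel.condition, G.map_zero])) := by
      refine @isCokernelEpiComp _ _ _ _ _ _ _ (hx.gIsCokernel) _ (G.map (Abelian.factorThruImage g)) he₁ _ ?_
      exact ((congrArg G.map (Abelian.image.fac g)).symm.trans (G.map_comp _ _))
    refine hc.coconePointUniqueUpToIso (colimit.isColimit _) ≪≫ ?_ ≪≫
      (colimit.isColimit _).coconePointUniqueUpToIso hk
    exact cokernel.mapIso (G.map g) f eM eN (by simp [g])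
  · intro S hS h₁ h₃
    have : PreservesFiniteColimits F :=
      inferInstance
    have hF : (S.map F).ShortExact := hS.map_of_exact F
    have hu₁ := isIso_unit_of_map F G adj P h₁
    have hu₃ := isIso_unit_of_map F G adj P h₃
    have hP : ∀ {Y : B}, P.map G Y → P (F.obj Y) := fun ⟨X, hX, ⟨e⟩⟩ =>
      P.prop_of_iso ((asIso (adj.counit.app X)).symm ≪≫ F.mapIso e) hX
    refine ⟨F.obj S.X₂, P.prop_X₂_of_shortExact hF (hP h₁) (hP h₃), ⟨?_⟩⟩
    have hG : ((S.map F).map G).ShortExact := by
      have := hepi _ hF (hP h₁)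
      refine ShortComplex.ShortExact.mk' ?_ (@Functor.map_mono _ _ _ _ G _ _ _ (S.map F).f hF.mono_f) this
      exact ((S.map F).exact_and_mono_f_iff_f_is_kernel.1 ⟨hF.exact, hF.mono_f⟩) |>.elim fun hl =>
        ((S.map F).map G).exact_of_f_is_kernel (KernelFork.mapIsLimit _ hl G)
    let φ : S ⟶ (S.map F).map G :=
      ShortComplex.homMk (adj.unit.app S.X₁) (adj.unit.app S.X₂) (adj.unit.app S.X₃)
        (adj.unit.naturality S.f).symm (adj.unit.naturality S.g).symm
    have : IsIso φ.τ₁ := hu₁
    have : IsIso φ.τ₃ := hu₃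
    have := ShortComplex.isIso₂_of_shortExact_of_isIso₁₃ φ hS hG
    exact (asIso φ.τ₂).symm

end Groth.Agent.SiteCmpLib
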