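import Groth.Prelude.Def_SiteCmp
import Groth.Agent.H9Misc.GPDerived
import Groth.Agent.SiteBase.ModGroth

/-! The adjunction between the exact inverse image and the unbounded derived direct image. -/

universe u

open CategoryTheory CategoryTheory.Limits DerivedCategory

attribute [local instance] HasDerivedCategory.standard

namespace Groth.Agent.SiteCmpLib

variable {C D : Type u} [SmallCategory C] [SmallCategory D]
  {J : GrothendieckTopology C} {K : GrothendieckTopology D}
  {O_C : Sheaf J CommRingCat.{u}} {O_D : Sheaf K CommRingCat.{u}} (f : ModSite.RMor O_C O_D)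

theorem nonempty_adj [PreservesFiniteLimits f.pull] [SiteCmp.HasRpushD f] :
    Nonempty (SiteCmp.pullD f ⊣ SiteCmp.RpushD f) := by
  have := H9Misc.GPDerived.qh_isLeftAdjoint (ModSite.Mod O_C)
  let adjQ := Adjunction.ofIsLeftAdjoint (Qh (C := ModSite.Mod O_C))
  let W := HomotopyCategory.quasiIso (ModSite.Mod O_C) (ComplexShape.up ℤ)
  have := TriCat.isRightDerivedFunctor_of_adjunction adjQ W (SiteCmp.pushKh f)
  let e : Qh.rightAdjoint ⋙ SiteCmp.pushKh f ≅ SiteCmp.RpushD f :=
    Functor.rightDerivedUnique _ _ (Functor.whiskerRight adjQ.unit (SiteCmp.pushKh f) :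
      SiteCmp.pushKh f ⟶ Qh ⋙ Qh.rightAdjoint ⋙ SiteCmp.pushKh f)
      ((SiteCmp.pushKh f).totalRightDerivedUnit Qh W) W
  exact ⟨(H9Misc.AdjDescend.derivedAdj f.adj adjQ).ofNatIsoRight (Functor.associator _ _ _ ≪≫ e)⟩

end Groth.Agent.SiteCmpLib
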